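import Groth.Agent.Lib.QuotSt.Atlas

/-!
# The square of the action over `[X/G]` is 2-cartesian
-/

set_option autoImplicit false
set_option backward.isDefEq.respectTransparency false
set_option backward.isDefEq.respectTransparency.types false

universe u

open CategoryTheory CategoryTheory.Limits MonoidalCategory CartesianMonoidalCategory MonObj GrpObj AlgebraicGeometry Opposite

namespace Groth.Agent.Lib.QuotSt

open AlgSt (QuotObj QuotSt quotMap ofSch ofSpMap)
open AlgSp (Sp yon)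

variable {S : Scheme.{u}} {K : Precoverage Scheme.{u}} [K.HasIsos] [K.IsStableUnderBaseChange]
  {G X : Over S} [GrpObj G] (aX : AlgGrp.Action G X)

/-- The point `(g · x)` of `X`. -/
noncomputable abbrev moved {T : Over S} (h : T ⟶ G ⊗ X) : T ⟶ X := h ≫ aX.act

/-- The point `x` of `X`. -/
noncomputable abbrev unmoved {T : Over S} (h : T ⟶ G ⊗ X) : T ⟶ X := h ≫ snd G X

variable (K) in
/-- Translation by the group component. -/
noncomputable def shift {T : Over S} (h : T ⟶ G ⊗ X) :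
    trivObj K aX (moved aX h) ⟶ trivObj K aX (unmoved h) :=
  ofPoint (A := trivObj K aX (unmoved h)) (moved aX h) (𝟙 T) (lift (h ≫ fst G X) (𝟙 T)) (lift_snd _ _) (by
    change lift _ _ ≫ (G ◁ unmoved h) ≫ aX.act = _
    rw [lift_whiskerLeft_assoc, Category.id_comp, moved, unmoved, ← comp_lift, lift_fst_snd, Category.comp_id])

theorem point_shift {T : Over S} (h : T ⟶ G ⊗ X) :
    point (shift K aX h) = lift (h ≫ fst G X) (𝟙 T) :=
  point_ofPoint _ _ _ _ _

instance {T : Over S} (h : T ⟶ G ⊗ X) : IsIso (shift K aX h) :=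
  @isIso_of_base _ _ _ _ _ _ _ _ _ _ _ (inferInstanceAs (IsIso (𝟙 T)))

omit [K.IsStableUnderBaseChange] in
theorem point_comp {T T' : Over S} {x : T ⟶ X} {x' : T' ⟶ X} {A : QuotObj K G aX}
    (f : (⟨T, ⟨x⟩⟩ : (ofSch X).obj) ⟶ ⟨T', ⟨x'⟩⟩) (m : trivObj K aX x' ⟶ A) :
    point (A := A) (x := x) ((quotMap K G aX).map f ≫ m) = f.hom ≫ point m := by
  change lift 1 (𝟙 _) ≫ (G ◁ f.hom) ≫ m.top = f.hom ≫ lift 1 (𝟙 _) ≫ m.top
  rw [lift_whiskerLeft_assoc, comp_lift_assoc, MonObj.comp_one, Category.id_comp, Category.comp_id]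

omit [K.IsStableUnderBaseChange] in
theorem point_map {T T' : Over S} {x : T ⟶ X} {x' : T' ⟶ X}
    (m : trivObj K aX x ⟶ trivObj K aX x') {T'' : Over S} {x'' : T'' ⟶ X}
    (f : (⟨T', ⟨x'⟩⟩ : (ofSch X).obj) ⟶ ⟨T'', ⟨x''⟩⟩) :
    point (A := trivObj K aX x'') (x := x) (m ≫ (quotMap K G aX).map f) =
      lift (point m ≫ fst G T') (m.base ≫ f.hom) := by
  change lift 1 (𝟙 _) ≫ m.top ≫ (G ◁ f.hom) = _
  apply CartesianMonoidalCategory.hom_ext
  · rw [lift_fst, Category.assoc, Category.assoc, whiskerLeft_fst]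
    rfl
  · rw [lift_snd, Category.assoc, Category.assoc, whiskerLeft_snd, ← point_π m]
    simp [point]
    rfl

/-- The 2-isomorphism between the two composites. -/
noncomputable def squareIso :
    BasedFunctor.comp (ofSpMap ((yon S).map aX.act)) (quotMap K G aX) ≅
      BasedFunctor.comp (ofSpMap ((yon S).map (snd G X))) (quotMap K G aX) :=
  BasedNatIso.mkNatIso
    (NatIso.ofComponents (fun a => asIso (shift K aX a.sec.down)) (fun {a b} f => by
      refine hom_ext_of_point ?_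
      change point (A := trivObj K aX (unmoved b.sec.down)) (x := moved aX a.sec.down)
          ((quotMap K G aX).map ((ofSpMap ((yon S).map aX.act)).map f) ≫ shift K aX b.sec.down) =
        point (shift K aX a.sec.down ≫ (quotMap K G aX).map ((ofSpMap ((yon S).map (snd G X))).map f))
      rw [point_comp, point_map, point_shift, point_shift]
      have hf : f.hom ≫ b.sec.down = a.sec.down := congrArg ULift.down f.map_sec
      apply CartesianMonoidalCategory.hom_ext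
      · change (f.hom ≫ lift _ _) ≫ fst _ _ = _
        rw [Category.assoc, lift_fst, lift_fst, ← Category.assoc, hf]
        exact (lift_fst _ _).symm
      · change (f.hom ≫ lift _ _) ≫ snd _ _ = _
        rw [Category.assoc, lift_snd, Category.comp_id]
        exact ((lift_snd _ _).trans (Category.id_comp f.hom)).symm))
    (fun a => isHomLift_of_base (shift K aX a.sec.down) rfl)

theorem fst_eq_of_square {T T' : Over S} {h : T ⟶ G ⊗ X} {h' : T' ⟶ G ⊗ X}
    (m₁ : (⟨T, ⟨moved aX h⟩⟩ : (ofSch X).obj) ⟶ ⟨T', ⟨moved aX h'⟩⟩)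
    (m₂ : (⟨T, ⟨unmoved h⟩⟩ : (ofSch X).obj) ⟶ ⟨T', ⟨unmoved h'⟩⟩)
    (w : (quotMap K G aX).map m₁ ≫ shift K aX h' = shift K aX h ≫ (quotMap K G aX).map m₂) :
    m₁.hom ≫ h' ≫ fst G X = h ≫ fst G X := by
  have h1 := congrArg (fun k : trivObj K aX (moved aX h) ⟶ trivObj K aX (unmoved h') => point k) w
  dsimp only at h1
  have h2 := ((point_comp aX m₁ (shift K aX h')).symm.trans h1).trans (point_map aX (shift K aX h) m₂)
  rw [point_shift, point_shift] at h2
  have h3 := congrArg (fun k => k ≫ fst G T') h2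
  dsimp only at h3
  rw [Category.assoc, lift_fst, lift_fst, lift_fst] at h3
  exact h3

theorem isTwoCartOver_square :
    FibCat.IsTwoCartOver (ofSpMap ((yon S).map aX.act)) (ofSpMap ((yon S).map (snd G X)))
      (squareIso (K := K) aX) := by
  let Φ := FibCat.fpLift (ofSpMap ((yon S).map aX.act)) (ofSpMap ((yon S).map (snd G X))) (squareIso (K := K) aX)
  have : Φ.toFunctor.Faithful := ⟨fun {a b f f'} h =>
    Stk.EltObj.hom_ext (congrArg (fun m => m.hom.fst.hom) h :)⟩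
  have : Φ.toFunctor.Full := ⟨fun {a b} m => by
    have hm : (ofSch X).p.IsHomLift ((FibCat.fp (quotMap K G aX) (quotMap K G aX)).p.map m) m.hom.snd :=
      FibCat.fp_isHomLift_snd _ _ m
    have hv : m.hom.snd.hom = m.hom.fst.hom :=
      (@IsHomLift.eq_of_isHomLift _ _ _ _ (ofSch X).p _ _ _ _ hm).symm
    let v : a.base ⟶ b.base := m.hom.fst.hom
    have w : (quotMap K G aX).map m.hom.fst ≫ shift K aX b.sec.down =
      shift K aX a.sec.down ≫ (quotMap K G aX).map m.hom.snd := m.hom.w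
    have hg : v ≫ b.sec.down ≫ fst G X = a.sec.down ≫ fst G X :=
      fst_eq_of_square aX m.hom.fst m.hom.snd w
    have hx : v ≫ b.sec.down ≫ snd G X = a.sec.down ≫ snd G X :=
      (congrArg (· ≫ b.sec.down ≫ snd G X) hv.symm).trans (congrArg ULift.down m.hom.snd.map_sec)
    have hab : v ≫ b.sec.down = a.sec.down := by
      apply CartesianMonoidalCategory.hom_ext
      · rw [Category.assoc]; exact hg
      · rw [Category.assoc]; exact hx
    refine ⟨⟨v, ULift.ext _ _ hab⟩, AlgStack.FibProd.hom_ext (Stk.EltObj.hom_ext rfl) (Stk.EltObj.hom_ext hv.symm)⟩⟩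
  refine AlgStack.BasedBasic.isEquivOver_of Φ fun z => ?_
  obtain ⟨⟨⟨T, ⟨x'⟩⟩, ⟨T', ⟨x⟩⟩, e⟩, he⟩ := z
  change trivObj K aX x' ≅ trivObj K aX x at e
  change (QuotSt K G aX).p.IsHomLift (𝟙 T) e.hom at he
  obtain rfl : T' = T := IsHomLift.codomain_eq (QuotSt K G aX).p (𝟙 T) e.hom
  have heb : e.hom.base = 𝟙 T' := by
    have := IsHomLift.fac' (QuotSt K G aX).p (𝟙 T') e.hom
    exact this.trans (by simp; rfl)
  let h : T' ⟶ G ⊗ X := lift (point e.hom ≫ fst G T') x
  have hs : point e.hom = lift (point e.hom ≫ fst G T') (𝟙 T') := by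
    apply CartesianMonoidalCategory.hom_ext
    · exact (lift_fst _ _).symm
    · rw [lift_snd]; exact (point_π e.hom).trans heb
  have hx' : moved aX h = x' := by
    refine Eq.trans ?_ (point_φ e.hom)
    rw [hs]
    change _ = lift _ _ ≫ (G ◁ x) ≫ aX.act
    rw [lift_whiskerLeft_assoc, Category.id_comp]
  have hx : unmoved h = x := lift_snd _ _
  refine ⟨⟨T', ⟨h⟩⟩, ?_⟩
  let f₁ : (⟨T', ⟨moved aX h⟩⟩ : (ofSch X).obj) ⟶ ⟨T', ⟨x'⟩⟩ :=
    ⟨𝟙 T', ULift.ext _ _ ((Category.id_comp _).trans hx'.symm)⟩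
  let f₁' : (⟨T', ⟨x'⟩⟩ : (ofSch X).obj) ⟶ ⟨T', ⟨moved aX h⟩⟩ :=
    ⟨𝟙 T', ULift.ext _ _ ((Category.id_comp _).trans hx')⟩
  let f₂ : (⟨T', ⟨unmoved h⟩⟩ : (ofSch X).obj) ⟶ ⟨T', ⟨x⟩⟩ :=
    ⟨𝟙 T', ULift.ext _ _ ((Category.id_comp _).trans hx.symm)⟩
  let f₂' : (⟨T', ⟨x⟩⟩ : (ofSch X).obj) ⟶ ⟨T', ⟨unmoved h⟩⟩ :=
    ⟨𝟙 T', ULift.ext _ _ ((Category.id_comp _).trans hx)⟩
  refine AlgStack.FibProd.exists_iso_over (x := Φ.obj ⟨T', ⟨h⟩⟩)
    (y := ⟨⟨⟨T', ⟨x'⟩⟩, ⟨T', ⟨x⟩⟩, e⟩, he⟩)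
    ⟨f₁, f₁', Stk.EltObj.hom_ext (Category.id_comp _), Stk.EltObj.hom_ext (Category.id_comp _)⟩
    ⟨f₂, f₂', Stk.EltObj.hom_ext (Category.id_comp _), Stk.EltObj.hom_ext (Category.id_comp _)⟩ ?_ ?_
  · change (quotMap K G aX).map f₁ ≫ e.hom = shift K aX h ≫ (quotMap K G aX).map f₂
    refine hom_ext_of_point ((point_comp aX f₁ e.hom).trans ?_)
    refine Eq.trans ?_ (point_map aX (shift K aX h) f₂).symm
    rw [point_shift, lift_fst]
    refine (Category.id_comp _).trans ?_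
    conv_lhs => rw [hs]
    congr 1
    exact (lift_fst _ x).symm
  · exact IsHomLift.of_fac' _ _ _ rfl rfl (by simp [f₁]; rfl)

end Groth.Agent.Lib.QuotSt
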