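import Groth.Agent.Lib.QuotSt.Diag
import Groth.Agent.Lib.GrpSch.Basic
import Groth.Agent.Lib.Ample.RelAmple

/-!
# Affine and quasi-affine diagonal of `[X/G]`
-/

set_option autoImplicit false
set_option backward.isDefEq.respectTransparency false
set_option backward.isDefEq.respectTransparency.types false

universe u

open CategoryTheory CategoryTheory.Limits MonoidalCategory CartesianMonoidalCategory MonObj GrpObj AlgebraicGeometry Opposite

namespace Groth.Agent.Lib.QuotSt

open AlgSt (QuotObj QuotSt ofSp ofSpMap toOverCat overMap RepByAlgSpWith)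
open AlgSp (Sp yon)
open FibCat (overCat fp fpFst fpSnd toSelf diag IsEquivOver)

variable {S : Scheme.{u}} {K : Precoverage Scheme.{u}} [K.HasIsos] [K.IsStableUnderBaseChange]
  {G X : Over S} [GrpObj G] {aX : AlgGrp.Action G X}

theorem qaHom_comp_affine ⦃A B C : Scheme.{u}⦄ (f : A ⟶ B) (g : B ⟶ C)
    (hf : AlgSpMor.QuasiAffineDescent.qaHom f) (hg : IsAffineHom g) :
    AlgSpMor.QuasiAffineDescent.qaHom (f ≫ g) := by
  have hg' : AlgSpMor.QuasiAffineDescent.qaHom g := Ample.Pullback.isQuasiAffine_of_isAffineHom g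
  rw [AlgSpMor.QuasiAffineDescent.qaHom_iff] at hf hg' ⊢
  have := hf.1
  have := hg'.1
  exact ⟨inferInstance, H54.IndQAff.comp hf.2 hg'.2⟩

theorem qaHom_diagonal {A B : Scheme.{u}} (f : A ⟶ B) [QuasiSeparated f] :
    AlgSpMor.QuasiAffineDescent.qaHom (pullback.diagonal f) :=
  Ample.RelAmple.isQuasiAffine_of_isImmersion _

theorem respectsIsoSp_affine : AlgStack.Space.RespectsIsoSp (S := S) AlgSp.IsAffineMor :=
  fun F F' G e a _ _ _ h => AlgSpMor.AffineDescent.isAffineMor_iff.2
    ((MorphismProperty.cancel_left_of_respectsIso (AlgSp.RepWith @IsAffineHom) e.hom a).2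
      (AlgSpMor.AffineDescent.isAffineMor_iff.1 h))

section PairOfPoints

variable {T : Over S} (a b : T ⟶ X)

/-- The pair of families given by two points of `X`. -/
noncomputable def pointPair : overCat T ⥤ᵇ fp (toSelf (QuotSt K G aX)) (toSelf (QuotSt K G aX)) where
  toFunctor :=
    { obj := fun g => AlgStack.FibProd.objMk (F := toSelf (QuotSt K G aX)) (G := toSelf (QuotSt K G aX))
        ((atlas K aX).obj ((Over.map a).obj g)) ((atlas K aX).obj ((Over.map b).obj g))
        (Iso.refl (show Over T from g).left) (IsHomLift.id rfl)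
      map := fun {g g'} f => AlgStack.FibProd.homMk ((atlas K aX).map ((Over.map a).map f))
        ((atlas K aX).map ((Over.map b).map f))
        ((Category.comp_id (show (show Over T from g).left ⟶ (show Over T from g').left from f.left)).trans
          (Category.id_comp (show (show Over T from g).left ⟶ (show Over T from g').left from f.left)).symm)
      map_id := fun g => AlgStack.FibProd.hom_ext
        ((congrArg (atlas K aX).map ((Over.map a).map_id g)).trans ((atlas K aX).map_id _))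
        ((congrArg (atlas K aX).map ((Over.map b).map_id g)).trans ((atlas K aX).map_id _))
      map_comp := fun f f' => AlgStack.FibProd.hom_ext
        ((congrArg (atlas K aX).map ((Over.map a).map_comp f f')).trans ((atlas K aX).map_comp _ _))
        ((congrArg (atlas K aX).map ((Over.map b).map_comp f f')).trans ((atlas K aX).map_comp _ _)) }
  w := rfl

omit [K.IsStableUnderBaseChange] in
theorem cross_base {A : (fp (toSelf (QuotSt K G aX)) (toSelf (QuotSt K G aX))).obj} {R : QuotObj K G aX}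
    (i : A ≅ (diag (toSelf (QuotSt K G aX))).obj R) (h : A.obj.fst.base = A.obj.snd.base) :
    (i.hom.hom.fst ≫ i.inv.hom.snd).base = eqToHom h := by
  have hA : A.obj.iso.hom = _ := @IsHomLift.fac' _ _ _ _ (FibCat.selfOver (Over S)).p _ _ _ _ _ _ A.property
  have hw : i.inv.hom.fst.base ≫ A.obj.iso.hom = 𝟙 R.base ≫ i.inv.hom.snd.base := i.inv.hom.w
  rw [Category.id_comp] at hw
  have hi : i.hom.hom.fst.base ≫ i.inv.hom.fst.base = 𝟙 A.obj.fst.base :=
    congrArg (fun k => k.hom.fst.base) i.hom_inv_id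
  rw [QuotObj.comp_base, ← hw, ← Category.assoc, hi, Category.id_comp, hA]
  simp

omit [K.IsStableUnderBaseChange] in
theorem cross_map {A A' : (fp (toSelf (QuotSt K G aX)) (toSelf (QuotSt K G aX))).obj} {R R' : QuotObj K G aX}
    (i : A ≅ (diag (toSelf (QuotSt K G aX))).obj R) (i' : A' ≅ (diag (toSelf (QuotSt K G aX))).obj R')
    (u : A ⟶ A') (n : R ⟶ R') (h : u ≫ i'.hom = i.hom ≫ (diag (toSelf (QuotSt K G aX))).map n) :
    u.hom.fst ≫ i'.hom.hom.fst ≫ i'.inv.hom.snd = (i.hom.hom.fst ≫ i.inv.hom.snd) ≫ u.hom.snd := by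
  have h1 : u.hom.fst ≫ i'.hom.hom.fst = i.hom.hom.fst ≫ n := congrArg (fun q => q.hom.fst) h
  have h2 : i.inv ≫ u = (diag (toSelf (QuotSt K G aX))).map n ≫ i'.inv := by
    rw [Iso.inv_comp_eq, ← Category.assoc, ← h, Category.assoc, Iso.hom_inv_id, Category.comp_id]
  have h3 : i.inv.hom.snd ≫ u.hom.snd = n ≫ i'.inv.hom.snd := congrArg (fun q => q.hom.snd) h2
  rw [← Category.assoc, h1, Category.assoc, Category.assoc, h3]

variable {x y : T ⟶ X}

/-- The group element of a translation. -/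
noncomputable def groupElt (e : trivObj K aX x ⟶ trivObj K aX y) : T ⟶ G := point e ≫ fst G T

omit [K.IsStableUnderBaseChange] in
theorem point_eq_lift (e : trivObj K aX x ⟶ trivObj K aX y) (he : e.base = 𝟙 T) :
    point e = lift (groupElt e) (𝟙 T) := by
  apply CartesianMonoidalCategory.hom_ext
  · exact (lift_fst _ _).symm
  · exact ((point_π e).trans he).trans (lift_snd _ _).symm

omit [K.IsStableUnderBaseChange] in
theorem groupElt_act (e : trivObj K aX x ⟶ trivObj K aX y) (he : e.base = 𝟙 T) :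
    lift (groupElt e) y ≫ aX.act = x := by
  refine Eq.trans ?_ (point_φ e)
  rw [point_eq_lift e he]
  change _ = lift _ _ ≫ (G ◁ y) ≫ aX.act
  rw [lift_whiskerLeft_assoc, Category.id_comp]

theorem groupElt_map {T' : Over S} {x' y' : T' ⟶ X} {e : trivObj K aX x ⟶ trivObj K aX y}
    {e' : trivObj K aX x' ⟶ trivObj K aX y'} {v : T ⟶ T'} (f : Over.mk x ⟶ Over.mk x')
    (g : Over.mk y ⟶ Over.mk y') (hf : f.left = v) (hg : g.left = v)
    (w : (atlas K aX).map f ≫ e' = e ≫ (atlas K aX).map g) : v ≫ groupElt e' = groupElt e := by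
  have h1 := congrArg (fun k => point (A := trivObj K aX y') (x := x) k ≫ fst G T') w
  dsimp only at h1
  have h2 : (f.left ≫ point e') ≫ fst G T' =
      (lift 1 (𝟙 T) ≫ e.top ≫ (G ◁ g.left)) ≫ fst G T' :=
    (congrArg (· ≫ fst G T') (point_comp_atlas (g := Over.mk x) (g' := Over.mk x') f e').symm).trans h1
  rw [hf] at h2
  refine (Category.assoc _ _ _).symm.trans (h2.trans ?_)
  refine (congrArg (· ≫ fst G T') (Category.assoc _ _ _).symm).trans ?_
  refine (Category.assoc _ _ _).trans (congrArg (_ ≫ ·) ?_)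
  exact whiskerLeft_fst _ _

end PairOfPoints

/-- The diagonal point of `X ⊗ X`. -/
noncomputable abbrev dl : X ⟶ X ⊗ X := lift (𝟙 X) (𝟙 X)

variable (K aX) in
/-- The trivial object on `X`. -/
noncomputable abbrev dR : QuotObj K G aX :=
  (atlas K aX).obj ((Over.map (fst X X)).obj (Over.mk dl))

/-- The identification of the two images of the diagonal point. -/
noncomputable def dlIso : (Over.map (snd X X)).obj (Over.mk (dl (X := X))) ≅ (Over.map (fst X X)).obj (Over.mk dl) :=
  Over.isoMk (Iso.refl X) (by simp [dl])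

omit [K.IsStableUnderBaseChange] in
theorem inv_base_of {A B : QuotObj K G aX} (e : A ≅ B) (h : A.base = B.base) (he : e.hom.base = eqToHom h) :
    e.inv.base = eqToHom h.symm := by
  have := congrArg (fun k => k.base) e.hom_inv_id
  simp only [QuotObj.comp_base, he, QuotObj.id_base] at this
  rw [← cancel_epi (eqToHom h)]
  exact this.trans (by simp)

/-- A pair identified componentwise with one object is isomorphic to its diagonal. -/
noncomputable def pairIso {A : (fp (toSelf (QuotSt K G aX)) (toSelf (QuotSt K G aX))).obj} {R : QuotObj K G aX}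
    (i₁ : A.obj.fst ≅ R) (i₂ : A.obj.snd ≅ R) (h₁ : A.obj.fst.base = R.base) (h₂ : A.obj.snd.base = R.base)
    (e₁ : i₁.hom.base = eqToHom h₁) (e₂ : i₂.hom.base = eqToHom h₂) :
    A ≅ (diag (toSelf (QuotSt K G aX))).obj R where
  hom := AlgStack.FibProd.homMk i₁.hom i₂.hom
    (self_w (A := A) (B := (diag (toSelf (QuotSt K G aX))).obj R) i₁.hom i₂.hom h₁ h₂ e₁ e₂)
  inv := AlgStack.FibProd.homMk i₁.inv i₂.inv
    (self_w (A := (diag (toSelf (QuotSt K G aX))).obj R) (B := A) i₁.inv i₂.inv h₁.symm h₂.symm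
      (inv_base_of i₁ h₁ e₁) (inv_base_of i₂ h₂ e₂))
  hom_inv_id := AlgStack.FibProd.hom_ext i₁.hom_inv_id i₂.hom_inv_id
  inv_hom_id := AlgStack.FibProd.hom_ext i₁.inv_hom_id i₂.inv_hom_id

theorem cross_pairIso {A : (fp (toSelf (QuotSt K G aX)) (toSelf (QuotSt K G aX))).obj} {R : QuotObj K G aX}
    (i₁ : A.obj.fst ≅ R) (i₂ : A.obj.snd ≅ R) (h₁ : A.obj.fst.base = R.base) (h₂ : A.obj.snd.base = R.base)
    (e₁ : i₁.hom.base = eqToHom h₁) (e₂ : i₂.hom.base = eqToHom h₂) :
    (pairIso i₁ i₂ h₁ h₂ e₁ e₂).hom.hom.fst ≫ (pairIso i₁ i₂ h₁ h₂ e₁ e₂).inv.hom.snd = i₁.hom ≫ i₂.inv := rfl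

variable (K aX) in
/-- The identification of the second image. -/
noncomputable def dSnd : (atlas K aX).obj ((Over.map (snd X X)).obj (Over.mk dl)) ≅ dR K aX :=
  (atlas K aX).toFunctor.mapIso dlIso

theorem dSnd_base : (dSnd K aX).hom.base = 𝟙 X := rfl

variable (K aX) in
/-- The pair over the diagonal is diagonal. -/
noncomputable def dPair :
    (pointPair (K := K) (aX := aX) (fst X X) (snd X X)).obj (Over.mk dl) ≅
      (diag (toSelf (QuotSt K G aX))).obj (dR K aX) :=
  pairIso (A := (pointPair (K := K) (aX := aX) (fst X X) (snd X X)).obj (Over.mk dl)) (R := dR K aX)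
    (Iso.refl _) (dSnd K aX) rfl rfl rfl dSnd_base

variable (K aX) in
/-- The object over the diagonal of `X`. -/
noncomputable def dObj :
    (fp (pointPair (K := K) (aX := aX) (fst X X) (snd X X)) (diag (toSelf (QuotSt K G aX)))).obj :=
  AlgStack.FibProd.objMk (F := pointPair (K := K) (aX := aX) (fst X X) (snd X X))
    (G := diag (toSelf (QuotSt K G aX))) (Over.mk dl) (dR K aX) (dPair K aX)
    (IsHomLift.of_fac' _ _ _ rfl rfl (by simp; rfl))

theorem groupElt_dSnd :
    groupElt (K := K) (aX := aX) (T := X) (x := dl ≫ fst X X) (y := dl ≫ snd X X)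
      (𝟙 (dR K aX) ≫ (dSnd K aX).inv) = (1 : X ⟶ G) := by
  change (lift 1 (𝟙 _) ≫ 𝟙 (G ⊗ X) ≫ (G ◁ 𝟙 X)) ≫ fst G X = 1
  rw [MonoidalCategory.whiskerLeft_id, Category.comp_id, Category.comp_id, lift_fst]

theorem isAffineHom_diagonal_of_transl (hG : IsAffineHom G.hom) {t : Over (X ⊗ X)}
    (e : trivObj K aX (t.hom ≫ fst X X) ⟶ trivObj K aX (t.hom ≫ snd X X)) (heb : e.base = 𝟙 t.left)
    (k : Over.mk dl ⟶ t) (hje : k.left ≫ groupElt e = (1 : X ⟶ G)) (haff : IsAffineHom t.hom.left) :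
    IsAffineHom (pullback.diagonal X.hom) := by
  let j : X ⟶ t.left := k.left
  have hj : j ≫ t.hom = dl := Over.w k
  let r : t.left ⟶ G ⊗ X := lift (groupElt e) (t.hom ≫ snd X X)
  let Ψ : G ⊗ X ⟶ X ⊗ X := lift aX.act (snd G X)
  have hr : r ≫ Ψ = t.hom := by
    apply CartesianMonoidalCategory.hom_ext
    · rw [Category.assoc, lift_fst]; exact groupElt_act e heb
    · rw [Category.assoc, lift_snd, lift_snd]
  have hjr : j ≫ r = lift (1 : X ⟶ G) (𝟙 X) := by
    rw [comp_lift, hje, ← Category.assoc, hj, lift_snd]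
  have hsG : IsSeparated (snd G X).left := GrpSch.snd_left_of (P := @IsSeparated) X (inferInstance : IsSeparated G.hom)
  have hs : IsClosedImmersion (lift (1 : X ⟶ G) (𝟙 X)).left := by
    have : IsClosedImmersion ((lift (1 : X ⟶ G) (𝟙 X)).left ≫ (snd G X).left) := by
      rw [← Over.comp_left, lift_snd]
      exact inferInstanceAs (IsClosedImmersion (𝟙 X.left))
    exact IsClosedImmersion.of_comp _ (snd G X).left
  have hrs : IsSeparated r.left := by
    have : IsSeparated (r.left ≫ Ψ.left) := by rw [← Over.comp_left, hr]; infer_instance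
    exact IsSeparated.of_comp r.left Ψ.left
  have hjc : IsClosedImmersion j.left := by
    have : IsClosedImmersion (j.left ≫ r.left) := by rw [← Over.comp_left, hjr]; exact hs
    exact IsClosedImmersion.of_comp j.left r.left
  have : IsAffineHom (j ≫ t.hom).left := by rw [Over.comp_left]; infer_instance
  rw [hj] at this
  exact this

theorem isAffineHom_diagonal_of_hom (hG : IsAffineHom G.hom) {t : Over (X ⊗ X)} {R : QuotObj K G aX}
    (i : (pointPair (K := K) (aX := aX) (fst X X) (snd X X)).obj t ≅ (diag (toSelf (QuotSt K G aX))).obj R)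
    (k : Over.mk dl ⟶ t) (n : dR K aX ⟶ R)
    (w : (pointPair (K := K) (aX := aX) (fst X X) (snd X X)).map k ≫ i.hom =
      (dPair K aX).hom ≫ (diag (toSelf (QuotSt K G aX))).map n) (haff : IsAffineHom t.hom.left) :
    IsAffineHom (pullback.diagonal X.hom) := by
  refine isAffineHom_diagonal_of_transl (K := K) (aX := aX) hG (t := t)
    (i.hom.hom.fst ≫ i.inv.hom.snd) (cross_base i rfl) k ?_ haff
  have h1 := cross_map (dPair K aX) i ((pointPair (K := K) (aX := aX) (fst X X) (snd X X)).map k) n w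
  rw [dPair, cross_pairIso] at h1
  exact (groupElt_map (x := dl ≫ fst X X) (y := dl ≫ snd X X) (x' := t.hom ≫ fst X X) (y' := t.hom ≫ snd X X)
    (v := k.left) ((Over.map (fst X X)).map k) ((Over.map (snd X X)).map k) rfl rfl h1).trans groupElt_dSnd

theorem objMk_w {C : Type*} [Category C] {𝒳 𝒴 𝒮 : BasedCategory C} {F : 𝒳 ⥤ᵇ 𝒮} {G : 𝒴 ⥤ᵇ 𝒮}
    (a : 𝒳.obj) (b : 𝒴.obj) (e : F.obj a ≅ G.obj b) (h : 𝒮.p.IsHomLift (𝟙 (𝒳.p.obj a)) e.hom)
    {ζ : (fp F G).obj} (m : AlgStack.FibProd.objMk a b e h ⟶ ζ) :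
    F.map m.hom.fst ≫ ζ.obj.iso.hom = e.hom ≫ G.map m.hom.snd := m.hom.w

theorem dPair_isHomLift :
    (fp (toSelf (QuotSt K G aX)) (toSelf (QuotSt K G aX))).p.IsHomLift
      (𝟙 ((overCat (X ⊗ X)).p.obj (Over.mk dl))) (dPair K aX).hom :=
  (dObj K aX).property

theorem isAffineHom_diagonal_of_obj (hG : IsAffineHom G.hom)
    (ζ : (fp (pointPair (K := K) (aX := aX) (fst X X) (snd X X)) (diag (toSelf (QuotSt K G aX)))).obj)
    (h : (fp (toSelf (QuotSt K G aX)) (toSelf (QuotSt K G aX))).p.IsHomLift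
      (𝟙 ((overCat (X ⊗ X)).p.obj (Over.mk dl))) (dPair K aX).hom)
    (m : AlgStack.FibProd.objMk (F := pointPair (K := K) (aX := aX) (fst X X) (snd X X))
      (G := diag (toSelf (QuotSt K G aX))) (Over.mk dl) (dR K aX) (dPair K aX) h ⟶ ζ)
    (haff : IsAffineHom (show Over (X ⊗ X) from ζ.obj.fst).hom.left) :
    IsAffineHom (pullback.diagonal X.hom) :=
  isAffineHom_diagonal_of_hom (K := K) (aX := aX) hG (t := ζ.obj.fst) ζ.obj.iso m.hom.fst m.hom.snd
    (objMk_w _ _ _ h m) haff

theorem isAffineHom_of_chart {W T : Over S}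
    (z : overCat T ⥤ᵇ fp (toSelf (QuotSt K G aX)) (toSelf (QuotSt K G aX))) (w : W ⟶ T)
    (eW : overCat W ⥤ᵇ fp z (diag (toSelf (QuotSt K G aX)))) (heW : IsEquivOver eW)
    (θ : BasedFunctor.comp eW (fpFst _ _) ≅ overMap w)
    (h : RepByAlgSpWith AlgSp.IsAffineMor (diag (toSelf (QuotSt K G aX)))) : IsAffineHom w.left := by
  have h' := AlgStack.Space.prop_of_rep respectsIsoSp_affine h (y := z) (AlgSp.IsAlgSpace.yon_obj W)
    (AlgStack.BasedBasic.IsEquivOver.comp (AlgStack.Rep.isEquivOver_toOverCat W) heW)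
  have key := (AlgStack.Rep.spMapOfOver_eq_of_iso (show BasedFunctor.comp (BasedFunctor.comp (toOverCat W) eW) (fpFst z _) ≅
    BasedFunctor.comp (ofSpMap ((yon S).map w)) (toOverCat T) from
    AlgStack.BasedBasic.isoWhiskerLeft (toOverCat W) θ ≪≫ eqToIso rfl)).trans
    (AlgStack.Rep.spMapOfOver_ofSpMap_toOverCat _)
  exact (AlgSp.repWith_yon_map_iff _ _).1 (AlgSpMor.AffineDescent.isAffineMor_iff.1 (key ▸ h'))

theorem isAffineHom_fst_left {W T : Over S}
    (z : overCat T ⥤ᵇ fp (toSelf (QuotSt K G aX)) (toSelf (QuotSt K G aX))) (w : W ⟶ T) (hw : IsAffineHom w.left)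
    (eW : overCat W ⥤ᵇ fp z (diag (toSelf (QuotSt K G aX))))
    (θ : BasedFunctor.comp eW (fpFst _ _) ≅ overMap w) :
    IsAffineHom (show Over T from (eW.obj (Over.mk (𝟙 W))).obj.fst).hom.left := by
  let t : Over T := (eW.obj (Over.mk (𝟙 W))).obj.fst
  change IsAffineHom t.hom.left
  let i' : t ≅ Over.mk (𝟙 W ≫ w) := AlgStack.BasedBasic.appIso θ (Over.mk (𝟙 W))
  have : IsIso i'.hom.left.left :=
    inferInstanceAs (IsIso ((Over.forget T ⋙ Over.forget S).map i'.hom))
  rw [← Over.w i'.hom, Over.comp_left, MorphismProperty.cancel_left_of_respectsIso @IsAffineHom]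
  change IsAffineHom (𝟙 W ≫ w).left
  rwa [Category.id_comp]

variable (aX) in
theorem isAffineHom_diagonal_of (hK : K ≤ Scheme.fppfPrecoverage) (hG : IsAffineHom G.hom) [Flat G.hom]
    [LocallyOfFinitePresentation G.hom] [QuasiSeparated X.hom]
    [MorphismProperty.DescendsAlong @Flat.{u} (@Surjective ⊓ @Flat ⊓ @QuasiCompact)]
    (hstack : ∀ (T : Over S) (z : overCat T ⥤ᵇ fp (toSelf (QuotSt K G aX)) (toSelf (QuotSt K G aX))),
      Stk.IsStack (AlgSp.J S) (fp z (diag (toSelf (QuotSt K G aX)))))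
    (h : RepByAlgSpWith AlgSp.IsAffineMor (diag (toSelf (QuotSt K G aX)))) :
    IsAffineHom (pullback.diagonal X.hom) := by
  have := AlgSpMor.QuasiAffineDescent.isLocalAtTarget_qaHom.{u}
  let z := pointPair (K := K) (aX := aX) (fst X X) (snd X X)
  obtain ⟨W, w, eW, heW, ⟨θ⟩, -⟩ := exists_rep_diag z hK hG
    (P := AlgSpMor.QuasiAffineDescent.qaHom) (fun _ _ _ h => h) (hstack _ z)
    (property_pt₁ z qaHom_comp_affine (hK.trans Scheme.fppfPrecoverage_le_fpqcPrecoverage) hG (qaHom_diagonal X.hom))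
  obtain ⟨ξ, i, -⟩ := AlgStack.BasedBasic.IsEquivOver.exists_iso heW (dObj K aX)
  exact isAffineHom_diagonal_of_obj hG (eW.obj (Over.mk (𝟙 W))) dPair_isHomLift (i.inv ≫ eW.map (AlgStack.Yoneda.toId ξ))
    (isAffineHom_fst_left z w (isAffineHom_of_chart z w eW heW θ h) eW θ)

theorem isAffineMor_diag (hK : K ≤ Scheme.fppfPrecoverage) (hG : IsAffineHom G.hom) [Flat G.hom]
    [LocallyOfFinitePresentation G.hom]
    [MorphismProperty.DescendsAlong @Flat.{u} (@Surjective ⊓ @Flat ⊓ @QuasiCompact)]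
    (hstack : ∀ (T : Over S) (z : overCat T ⥤ᵇ fp (toSelf (QuotSt K G aX)) (toSelf (QuotSt K G aX))),
      Stk.IsStack (AlgSp.J S) (fp z (diag (toSelf (QuotSt K G aX)))))
    (hX : IsAffineHom (pullback.diagonal X.hom)) :
    RepByAlgSpWith AlgSp.IsAffineMor (diag (toSelf (QuotSt K G aX))) := by
  have := AlgSpMor.AffineDescent.isLocalAtTarget_isAffineHom.{u}
  refine repByAlgSpWith_diag (P := @IsAffineHom) (fun A B f hf => isAffineMor_yon_map f hf) fun T z => ?_
  exact exists_rep_diag z hK hG (fun _ _ f _ => Ample.Pullback.isQuasiAffine_of_isAffineHom f) (hstack T z)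
    (property_pt₁ z (P := @IsAffineHom) (fun _ _ _ f g hf hg => by infer_instance)
      (hK.trans Scheme.fppfPrecoverage_le_fpqcPrecoverage) hG hX)

theorem isQuasiAffineMor_diag (hK : K ≤ Scheme.fppfPrecoverage) (hG : IsAffineHom G.hom) [Flat G.hom]
    [LocallyOfFinitePresentation G.hom] [QuasiSeparated X.hom]
    [MorphismProperty.DescendsAlong @Flat.{u} (@Surjective ⊓ @Flat ⊓ @QuasiCompact)]
    (hstack : ∀ (T : Over S) (z : overCat T ⥤ᵇ fp (toSelf (QuotSt K G aX)) (toSelf (QuotSt K G aX))),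
      Stk.IsStack (AlgSp.J S) (fp z (diag (toSelf (QuotSt K G aX))))) :
    RepByAlgSpWith AlgSp.IsQuasiAffineMor (diag (toSelf (QuotSt K G aX))) := by
  have := AlgSpMor.QuasiAffineDescent.isLocalAtTarget_qaHom.{u}
  refine repByAlgSpWith_diag (P := AlgSpMor.QuasiAffineDescent.qaHom) (fun A B f hf =>
    AlgSpMor.QuasiAffineDescent.isQuasiAffineMor_iff.2 ((AlgSp.repWith_yon_map_iff _ f).2 hf)) fun T z => ?_
  exact exists_rep_diag z hK hG (fun _ _ _ h => h) (hstack T z)
    (property_pt₁ z qaHom_comp_affine (hK.trans Scheme.fppfPrecoverage_le_fpqcPrecoverage) hG (qaHom_diagonal X.hom))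

end Groth.Agent.Lib.QuotSt
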