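import Groth.Agent.Lib.Fibred.DenseExtFF
import Groth.Agent.H14.IsoNat.BGNeutral
import Groth.Agent.Lib.AlgStack.BasedBasic
import Groth.Agent.Lib.AlgStack.SetoidalApps
import Groth.Prelude.Def_StGerb2

/-!
# The classifying stack of the stabiliser of a point maps fully faithfully to the stack
-/

set_option autoImplicit false
set_option backward.isDefEq.respectTransparency false
set_option backward.isDefEq.respectTransparency.types false

universe u

open CategoryTheory CategoryTheory.Limits MonoidalCategory CartesianMonoidalCategory MonObj AlgebraicGeometry Opposite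
open Groth.Agent.Lib.Fibred.Descent

namespace Groth.Agent.Lib.QuotSt.BGMono

open Groth.Agent.Lib.Fibred.StackLemmas (isIso_of_vertical)
open Groth.Agent.H14.IsoNat.BGNeutral (triv)

noncomputable section

variable {S : Scheme.{u}} (G : Over S) [GrpObj G]

local notation "𝔅" => AlgSt.BG Scheme.fppfPrecoverage G

/-! ### Morphisms of trivial torsors -/

variable {G}

/-- The morphism of total spaces. -/
abbrev tp {V' V : Over S} (a : triv G V' ⟶ triv G V) : G ⊗ V' ⟶ G ⊗ V := a.top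

/-- The element of the group carried by a morphism of trivial torsors. -/
def coef {V' V : Over S} (a : triv G V' ⟶ triv G V) : V' ⟶ G := lift 1 (𝟙 V') ≫ tp a ≫ fst G V

/-- The underlying morphism of the bases. -/
abbrev bs {V' V : Over S} (a : triv G V' ⟶ triv G V) : V' ⟶ V := a.base

theorem top_snd {V' V : Over S} (a : triv G V' ⟶ triv G V) : tp a ≫ snd G V = snd G V' ≫ bs a := a.cart.w

theorem top_fst {V' V : Over S} (a : triv G V' ⟶ triv G V) :
    tp a ≫ fst G V = fst G V' * (snd G V' ≫ coef a) := by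
  let e : G ⊗ V' ⟶ G ⊗ (G ⊗ V') := lift (fst G V') (snd G V' ≫ lift 1 (𝟙 V'))
  have h1 : e ≫ (AlgSt.leftMul G V').act = 𝟙 (G ⊗ V') := by
    apply CartesianMonoidalCategory.hom_ext <;> simp [e, AlgSt.leftMul, comp_mul]
  have h2 : (e ≫ (AlgSt.leftMul G V').act) ≫ tp a ≫ fst G V =
      (e ≫ (G ◁ tp a)) ≫ (AlgSt.leftMul G V).act ≫ fst G V := by
    have ea : (AlgSt.leftMul G V').act ≫ tp a = (G ◁ tp a) ≫ (AlgSt.leftMul G V).act := a.eqv
    simp only [Category.assoc, reassoc_of% ea]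
  rw [h1, Category.id_comp] at h2
  conv_lhs => rw [h2]
  simp [e, coef, AlgSt.leftMul, comp_mul]
  rw [← Category.assoc (snd G V'), comp_lift, Category.comp_id, MonObj.comp_one]

theorem triv_ext {V' V : Over S} {a b : triv G V' ⟶ triv G V} (hb : bs a = bs b) (hc : coef a = coef b) :
    a = b := by
  refine AlgSt.QuotObj.hom_ext hb ?_
  apply CartesianMonoidalCategory.hom_ext
  · rw [top_fst a, top_fst b, hc]
  · rw [top_snd a, top_snd b, hb]

theorem coef_id (V : Over S) : coef (𝟙 (triv G V)) = 1 := by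
  change lift 1 (𝟙 V) ≫ 𝟙 (G ⊗ V) ≫ fst G V = 1
  simp

theorem coef_comp {V'' V' V : Over S} (a : triv G V'' ⟶ triv G V') (b : triv G V' ⟶ triv G V) :
    coef (a ≫ b) = coef a * (bs a ≫ coef b) := by
  have e : lift 1 (𝟙 V'') ≫ tp a = lift (coef a) (bs a) := by
    apply CartesianMonoidalCategory.hom_ext
    · simp [coef]
    · rw [Category.assoc, top_snd a, lift_snd_assoc, Category.id_comp, lift_snd]
  change lift 1 (𝟙 V'') ≫ (tp a ≫ tp b) ≫ fst G V = _
  rw [Category.assoc, top_fst b, reassoc_of% e, comp_mul, lift_fst, lift_snd_assoc]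

theorem exists_hom {V' V : Over S} (u : V' ⟶ V) (c : V' ⟶ G) :
    ∃ a : triv G V' ⟶ triv G V, bs a = u ∧ coef a = c := by
  let r : G ⊗ V' ⟶ G ⊗ V' := lift (fst G V' * (snd G V' ≫ c)) (snd G V')
  let r' : G ⊗ V' ⟶ G ⊗ V' := lift (fst G V' * (snd G V' ≫ c)⁻¹) (snd G V')
  have h1 : r ≫ r' = 𝟙 _ := by
    apply CartesianMonoidalCategory.hom_ext <;> simp [r, r', comp_mul, GrpObj.comp_inv]
  have h2 : r' ≫ r = 𝟙 _ := by
    apply CartesianMonoidalCategory.hom_ext <;> simp [r, r', comp_mul, GrpObj.comp_inv]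
  have : IsIso r := ⟨r', h1, h2⟩
  have hc : IsPullback r (snd G V') (snd G V') (𝟙 V') := IsPullback.of_horiz_isIso ⟨by simp [r]⟩
  have hcart : IsPullback (r ≫ (G ◁ u)) (snd G V') (snd G V) u := by
    simpa using hc.paste_horiz (AlgSt.isPullback_whiskerLeft u)
  refine ⟨⟨u, r ≫ (G ◁ u), ?_, hcart, toUnit_unique _ _⟩, rfl, ?_⟩
  · change (AlgSt.leftMul G V').act ≫ r ≫ (G ◁ u) = (G ◁ (r ≫ (G ◁ u))) ≫ (AlgSt.leftMul G V).act
    apply CartesianMonoidalCategory.hom_ext <;> simp [r, AlgSt.leftMul, comp_mul, _root_.mul_assoc]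
  · change lift 1 (𝟙 V') ≫ (r ≫ (G ◁ u)) ≫ fst G V = c
    simp [r, comp_mul]

/-! ### The functor to a stack -/

variable {𝒳 : AlgSt.Cat S} (x : FibCat.overCat (Over.mk (𝟙 S)) ⥤ᵇ 𝒳)
  (r : Gerb.AutRep x (Gerb.ptsGrp (Over.mk (𝟙 S)) G))

/-- An object over the base as an object of the slice. -/
def sl (V : Over S) : Over (Over.mk (𝟙 S) : Over S) := Over.mk (Over.homMk V.hom (by simp))

/-- A morphism as a morphism of the slice. -/
def slMap {V' V : Over S} (u : V' ⟶ V) : sl V' ⟶ sl V :=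
  Over.homMk u (by ext; exact Over.w u)

/-- The automorphism given by an element of the group. -/
def aut (V : Over S) (c : V ⟶ G) : x.obj (sl V) ⟶ x.obj (sl V) := (r.iso (sl V) c).hom.1

theorem aut_one (V : Over S) : aut x r V (1 : V ⟶ G) = 𝟙 _ := by
  change (r.iso (sl V) (1 : (Gerb.ptsGrp (Over.mk (𝟙 S)) G).obj (op (sl V)))).hom.1 = _
  rw [map_one]; rfl

theorem aut_mul (V : Over S) (c d : V ⟶ G) : aut x r V (c * d) = aut x r V d ≫ aut x r V c := by
  change (r.iso (sl V) ((show (Gerb.ptsGrp (Over.mk (𝟙 S)) G).obj (op (sl V)) from c) *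
    (show (Gerb.ptsGrp (Over.mk (𝟙 S)) G).obj (op (sl V)) from d))).hom.1 = _
  rw [map_mul]; rfl

theorem aut_natural {V' V : Over S} (u : V' ⟶ V) (c : V ⟶ G) :
    aut x r V' (u ≫ c) ≫ x.map (slMap u) = x.map (slMap u) ≫ aut x r V c :=
  r.natural (slMap u) c

theorem lift_of_eq {z : 𝒳.obj} {V : Over S} (e : 𝒳.p.obj z = V) (θ : z ⟶ z)
    (h : 𝒳.p.IsHomLift (𝟙 (𝒳.p.obj z)) θ) : 𝒳.p.IsHomLift (𝟙 V) θ := by
  subst e; exact h

theorem aut_lift (V : Over S) (c : V ⟶ G) : 𝒳.p.IsHomLift (𝟙 V) (aut x r V c) := by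
  exact lift_of_eq (x.w_obj (sl V)) (r.iso (sl V) c).hom.1 (r.iso (sl V) c).hom.2

/-- The image of a morphism of trivial torsors. -/
def mapM {V' V : Over S} (a : triv G V' ⟶ triv G V) : x.obj (sl V') ⟶ x.obj (sl V) :=
  aut x r V' (coef a)⁻¹ ≫ x.map (slMap (bs a))

theorem map_lift {V' V : Over S} (u : V' ⟶ V) : 𝒳.p.IsHomLift u (x.map (slMap u)) :=
  have : (FibCat.overCat (Over.mk (𝟙 S))).p.IsHomLift u (slMap u) :=
    IsHomLift.map (Over.forget _) (slMap u)
  BasedFunctor.preserves_isHomLift x u _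

theorem mapM_lift {V' V : Over S} (a : triv G V' ⟶ triv G V) : 𝒳.p.IsHomLift (bs a) (mapM x r a) :=
  have := aut_lift x r V' (coef a)⁻¹
  have := map_lift x (bs a)
  inferInstanceAs (𝒳.p.IsHomLift (bs a) (_ ≫ _))

theorem bs_eq {V' V : Over S} {u : V' ⟶ V} {a : triv G V' ⟶ triv G V} (h : (𝔅).p.IsHomLift u a) :
    bs a = u :=
  (Lib.Fibred.DenseExt.base_eq (IsHomLift.map (𝔅).p a) h :)

/-- The dense family of trivial torsors. -/
def data (h : FibCat.IsFibGrpd 𝒳.p) : Lib.Fibred.DenseExt.Data 𝔅 𝒳 where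
  z V := triv G V
  w V := x.obj (sl V)
  hz _ := rfl
  hw V := x.w_obj (sl V)
  ex u := by
    obtain ⟨a, rfl, -⟩ := exists_hom u (1 : _ ⟶ G)
    exact ⟨a, IsHomLift.map (𝔅).p a⟩
  M a := mapM x r a
  lifts u a hu := bs_eq hu ▸ mapM_lift x r a
  map_id V := by
    rw [mapM, coef_id, inv_one, aut_one, Category.id_comp]
    exact x.toFunctor.map_id _
  map_comp {V'' V' V} a b := by
    change mapM x r (a ≫ b) = mapM x r a ≫ mapM x r b
    have e : slMap (bs (a ≫ b)) = slMap (bs a) ≫ slMap (bs b) := rfl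
    rw [mapM, mapM, mapM, coef_comp, mul_inv_rev, aut_mul, e, x.toFunctor.map_comp,
      ← GrpObj.comp_inv, ← Category.assoc, ← Category.assoc, Category.assoc _ _ (x.map (slMap (bs a))),
      aut_natural]
    simp only [Category.assoc]
  bij {V' V} := by
    refine ⟨fun a b e => ?_, fun m => ?_⟩
    · have hb : bs a = bs b := Lib.Fibred.DenseExt.base_eq (mapM_lift x r a)
        (by rw [show mapM x r a = mapM x r b from e]; exact mapM_lift x r b)
      refine triv_ext hb (inv_injective ?_)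
      have e' : aut x r V' (coef a)⁻¹ = aut x r V' (coef b)⁻¹ :=
        ext_lift h (x.map (slMap (bs a))) (map_lift x _) (aut_lift x r _ _) (aut_lift x r _ _)
          (by
            have e2 : mapM x r a = mapM x r b := e
            rw [mapM, mapM, ← hb] at e2
            exact e2)
      exact (r.iso (sl V')).injective (Iso.ext (Functor.Fiber.hom_ext e'))
    · let u : V' ⟶ V := eqToHom (x.w_obj (sl V')).symm ≫ 𝒳.p.map m ≫ eqToHom (x.w_obj (sl V))
      have hm : 𝒳.p.IsHomLift u m := IsHomLift.of_fac' _ _ _ (x.w_obj _) (x.w_obj _) (by simp [u])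
      obtain ⟨θ, hθ, eθ⟩ := exists_factor h (x.map (slMap u)) (map_lift x u) m hm
      have := isIso_of_vertical h θ hθ
      have hθ' : 𝒳.p.IsHomLift (𝟙 (𝒳.p.obj (x.obj (sl V')))) θ := by
        rwa [show 𝒳.p.obj (x.obj (sl V')) = V' from x.w_obj (sl V')]
      have hθi : 𝒳.p.IsHomLift (𝟙 (𝒳.p.obj (x.obj (sl V')))) (CategoryTheory.inv θ) :=
        IsHomLift.lift_id_inv_isIso _ _ _
      let α : Gerb.AutO (x.obj (sl V')) :=
        { hom := ⟨θ, hθ'⟩
          inv := ⟨CategoryTheory.inv θ, hθi⟩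
          hom_inv_id := Functor.Fiber.hom_ext (IsIso.hom_inv_id θ)
          inv_hom_id := Functor.Fiber.hom_ext (IsIso.inv_hom_id θ) }
      obtain ⟨c, hc⟩ := (r.iso (sl V')).surjective α
      obtain ⟨a, ha, ha'⟩ := exists_hom u (show V' ⟶ G from c)⁻¹
      refine ⟨a, ?_⟩
      change mapM x r a = m
      rw [mapM, ha, ha', inv_inv, ← eθ]
      exact congrArg (fun β : Gerb.AutO _ => β.hom.1 ≫ x.map (slMap u)) hc

/-- The classifying stack of the stabiliser of a point maps monomorphically to the stack. -/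
theorem exists_isMono (h𝒳 : AlgSt.IsAlgStack Scheme.fppfPrecoverage 𝒳)
    (hB : AlgSt.IsAlgStack Scheme.fppfPrecoverage 𝔅) (r : Gerb.AutRep x (Gerb.ptsGrp (Over.mk (𝟙 S)) G)) :
    ∃ j : 𝔅 ⥤ᵇ 𝒳, AlgSt.IsMono j ∧
      Nonempty (BasedFunctor.comp (AlgSt.quotMap Scheme.fppfPrecoverage G (AlgSt.trivAction G)) j ≅
        BasedFunctor.comp (AlgSt.toOverCat (Over.mk (𝟙 S))) x) := by
  have g𝒳 := h𝒳.isStack.1
  let D := data x r g𝒳
  obtain ⟨F, hFu, hFf, τ, hτ, hnat⟩ := Lib.Fibred.DenseExt.exists_fullyFaithful D (AlgSp.J S) hB.isStack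
    h𝒳.isStack fun o => by
      obtain ⟨R, hR, hl⟩ := H14.IsoNat.BGNeutral.locally_triv G o
      exact (AlgSp.J S).superset_covering (fun V f hf => hl f hf) hR
  refine ⟨F, AlgStack.SetoidalApps.isMono_of_fullyFaithful hB h𝒳 F, ?_⟩
  have : ∀ V, IsIso (τ V) := fun V => isIso_of_vertical g𝒳 (τ V) (hτ V)
  let P := AlgSt.quotMap Scheme.fppfPrecoverage G (AlgSt.trivAction G)
  have ho : ∀ o : (AlgSt.ofSch (𝟙_ (Over S))).obj, P.obj o = triv G o.base := fun o => by
    obtain ⟨V, ⟨s⟩⟩ := o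
    obtain rfl : s = toUnit V := toUnit_unique _ _
    rfl
  have hs : ∀ o : (AlgSt.ofSch (Over.mk (𝟙 S))).obj,
      (AlgSt.toOverCat (Over.mk (𝟙 S))).obj o = sl o.base := fun o => by
    obtain ⟨V, ⟨s⟩⟩ := o
    obtain rfl : s = Over.homMk V.hom (by simp) := toUnit_unique (X := V) _ _
    rfl
  let Φ := BasedFunctor.comp P F
  let Ψ := BasedFunctor.comp (AlgSt.toOverCat (Over.mk (𝟙 S))) x
  let e : ∀ o, Φ.obj o ≅ Ψ.obj o := fun o =>
    eqToIso (congrArg F.obj (ho o)) ≪≫ (asIso (τ o.base)).symm ≪≫ eqToIso (congrArg x.obj (hs o)).symm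
  refine ⟨BasedNatIso.mkNatIso (NatIso.ofComponents e fun {o o'} f => ?_) fun o => ?_⟩
  · obtain ⟨V, ⟨s⟩⟩ := o
    obtain ⟨V', ⟨s'⟩⟩ := o'
    obtain rfl : s = toUnit V := toUnit_unique _ _
    obtain rfl : s' = toUnit V' := toUnit_unique _ _
    let a : triv G V ⟶ triv G V' := P.map f
    have ea : D.M a = x.map (slMap f.hom) := by
      change aut x r V (coef a)⁻¹ ≫ x.map (slMap f.hom) = _
      have : coef a = 1 := by
        change lift 1 (𝟙 V) ≫ (G ◁ f.hom) ≫ fst G V' = 1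
        simp
      rw [this, inv_one, aut_one, Category.id_comp]
    change F.map a ≫ (𝟙 _ ≫ CategoryTheory.inv (τ V') ≫ 𝟙 _) =
      (𝟙 _ ≫ CategoryTheory.inv (τ V) ≫ 𝟙 _) ≫ x.map (slMap f.hom)
    simp only [Category.id_comp, Category.comp_id]
    rw [IsIso.comp_inv_eq, Category.assoc, IsIso.eq_inv_comp, hnat a, ea]
  · obtain ⟨V, ⟨s⟩⟩ := o
    obtain rfl : s = toUnit V := toUnit_unique _ _
    change 𝒳.p.IsHomLift (𝟙 V) (𝟙 _ ≫ CategoryTheory.inv (τ V) ≫ 𝟙 _)
    simp only [Category.id_comp, Category.comp_id]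
    have := hτ V
    exact IsHomLift.lift_id_inv_isIso _ _ _

end

end Groth.Agent.Lib.QuotSt.BGMono
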