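import Groth.Agent.Lib.QuotSt.Repr

/-!
# `[X/G]` is a stack for an affine group scheme
-/

set_option autoImplicit false
set_option backward.isDefEq.respectTransparency false
set_option backward.isDefEq.respectTransparency.types false

universe u

open CategoryTheory CategoryTheory.Limits MonoidalCategory CartesianMonoidalCategory MonObj GrpObj AlgebraicGeometry Opposite

namespace Groth.Agent.Lib.QuotSt

open AlgSt (QuotObj QuotSt)
open AlgSp (Sp yon)
open Descended

variable {S : Scheme.{u}} {K : Precoverage Scheme.{u}} [K.HasIsos] [K.IsStableUnderBaseChange]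
  {G X : Over S} [GrpObj G] {aX : AlgGrp.Action G X} {U : Over S} {R : Sieve U}

omit [K.HasIsos] [K.IsStableUnderBaseChange] in
/-- The topology of a precoverage coarser than the fppf one. -/
theorem le_fppf (hK : K ≤ Scheme.fppfPrecoverage) : QuotSh.J K S ≤ AlgSp.J S := fun _ R hR => by
  rw [GrothendieckTopology.mem_over_iff] at hR ⊢
  exact Precoverage.toGrothendieck_mono hK _ hR

variable (H : Stk.sieveCat R ⥤ᵇ QuotSt K G aX)

/-- A scheme representing the descended sheaf. -/
structure Rep where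
  /-- the total space -/
  W : Over S
  /-- the projection -/
  w : W ⟶ U
  /-- the identification with the descended sheaf -/
  e : (yon S).obj W ≅ sh H
  he : e.hom ≫ shHom H = (yon S).map w

namespace Rep

variable {H} (D : Rep H)

/-- The universal family of sections. -/
def univ : Sec H D.W := D.e.hom.hom.app (op D.W) ⟨𝟙 D.W⟩

theorem app_eq {Z : Over S} (x : Z ⟶ D.W) :
    (show Sec H Z from D.e.hom.hom.app (op Z) ⟨x⟩) = D.univ.restr x := by
  have := NatTrans.naturality_apply D.e.hom.hom x.op ⟨𝟙 D.W⟩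
  refine Eq.trans ?_ this
  exact congrArg (fun k => D.e.hom.hom.app (op Z) ⟨k⟩) (Category.comp_id x).symm

theorem base_univ : D.univ.base = D.w := by
  have := congrArg (fun k => k.hom.app (op D.W) ⟨𝟙 D.W⟩) D.he
  exact (congrArg ULift.down this).trans (Category.id_comp D.w)

theorem base_restr {Z : Over S} (x : Z ⟶ D.W) : (D.univ.restr x).base = x ≫ D.w := by
  simp [Sec.restr, D.base_univ]

theorem exists_restr {Z : Over S} (σ : Sec H Z) : ∃ x : Z ⟶ D.W, D.univ.restr x = σ := by
  refine ⟨(show ULift (Z ⟶ D.W) from D.e.inv.hom.app (op Z) σ).down, ?_⟩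
  rw [← app_eq]
  change D.e.hom.hom.app (op Z) (D.e.inv.hom.app (op Z) σ) = σ
  exact congrArg (fun k => k.hom.app (op Z) σ) D.e.inv_hom_id

theorem restr_inj {Z : Over S} {x y : Z ⟶ D.W} (h : D.univ.restr x = D.univ.restr y) : x = y := by
  rw [← app_eq, ← app_eq] at h
  have h' := congrArg (fun σ => D.e.inv.hom.app (op Z) σ) h
  have hl : ∀ z : Z ⟶ D.W, D.e.inv.hom.app (op Z) (show Sec H Z from D.e.hom.hom.app (op Z) ⟨z⟩) = ⟨z⟩ :=
    fun z => congrArg (fun k => k.hom.app (op Z) ⟨z⟩) D.e.hom_inv_id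
  exact congrArg ULift.down ((hl x).symm.trans (h'.trans (hl y)))

theorem restr_comp {Z Z' : Over S} (y : Z' ⟶ Z) (x : Z ⟶ D.W) :
    D.univ.restr (y ≫ x) = (D.univ.restr x).restr y :=
  Sec.ext' (Category.assoc _ _ _) fun _ _ _ _ => D.univ.congr (Category.assoc _ _ _).symm _ _

/-- The section of the torsor over a member of the sieve at a point. -/
def s (a : (Stk.sieveCat R).obj) (x : a.obj.left ⟶ D.W) (h : x ≫ D.w = a.obj.hom) :
    a.obj.left ⟶ (H.obj a).P :=
  D.univ.sec a x (D.base_univ.symm ▸ h)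

theorem s_congr (a : (Stk.sieveCat R).obj) {x x' : a.obj.left ⟶ D.W} (e : x = x') (h : x ≫ D.w = a.obj.hom)
    (h' : x' ≫ D.w = a.obj.hom) : D.s a x h = D.s a x' h' :=
  D.univ.congr e _ _

theorem s_map {a b : (Stk.sieveCat R).obj} (m : a ⟶ b) (x : b.obj.left ⟶ D.W) (h : x ≫ D.w = b.obj.hom)
    (h' : (m.hom.left ≫ x) ≫ D.w = a.obj.hom) :
    m.hom.left ≫ D.s b x h = D.s a (m.hom.left ≫ x) h' ≫ (H.map m).top :=
  D.univ.sec_map a b m x _ _

theorem s_π (a : (Stk.sieveCat R).obj) (x : a.obj.left ⟶ D.W) (h : x ≫ D.w = a.obj.hom) :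
    D.s a x h ≫ (H.obj a).π = eqToHom (base_eq H a).symm :=
  D.univ.sec_π _ _ _

theorem ext {Z : Over S} {x y : Z ⟶ D.W} (hb : x ≫ D.w = y ≫ D.w)
    (hs : ∀ (a : (Stk.sieveCat R).obj) (v : a.obj.left ⟶ Z) (h : (v ≫ x) ≫ D.w = a.obj.hom) (h' : (v ≫ y) ≫ D.w = a.obj.hom),
      D.s a (v ≫ x) h = D.s a (v ≫ y) h') : x = y := by
  apply D.restr_inj
  refine Sec.ext' ?_ fun a v h h' => ?_
  · exact (D.base_restr x).trans (hb.trans (D.base_restr y).symm)
  exact hs a v ((Category.assoc _ _ _).trans ((congrArg (v ≫ ·) (D.base_restr x)).symm.trans h))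
    ((Category.assoc _ _ _).trans ((congrArg (v ≫ ·) (D.base_restr y)).symm.trans h'))

/-- The family of sections over `G × W` defining the action. -/
noncomputable def actSec : Sec H (G ⊗ D.W) where
  base := snd G D.W ≫ D.w
  sec a v h := lift (v ≫ fst G D.W) (D.s a (v ≫ snd G D.W) ((Category.assoc _ _ _).trans h)) ≫ (H.obj a).act.act
  sec_π a v h := (lift_act_π _ _ _).trans (D.s_π _ _ _)
  sec_map a b m v h h' := by
    rw [lift_eqv, ← Category.assoc, comp_lift, ← Category.assoc m.hom.left v (fst G D.W),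
      D.s_map m (v ≫ snd G D.W) ((Category.assoc _ _ _).trans h) (by
        rw [Category.assoc, Category.assoc]; rw [Category.assoc] at h'; exact h')]
    congr 3

/-- The action map. -/
noncomputable def act : G ⊗ D.W ⟶ D.W := (D.exists_restr D.actSec).choose

theorem restr_act : D.univ.restr D.act = D.actSec := (D.exists_restr D.actSec).choose_spec

theorem act_w : D.act ≫ D.w = snd G D.W ≫ D.w :=
  (D.base_restr D.act).symm.trans (congrArg Sec.base D.restr_act)

theorem s_act (a : (Stk.sieveCat R).obj) (g : a.obj.left ⟶ G) (x : a.obj.left ⟶ D.W) (h : x ≫ D.w = a.obj.hom)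
    (h' : (lift g x ≫ D.act) ≫ D.w = a.obj.hom) :
    D.s a (lift g x ≫ D.act) h' = lift g (D.s a x h) ≫ (H.obj a).act.act := by
  refine (Sec.congr' D.restr_act (lift g x)
    ((congrArg (lift g x ≫ ·) (D.base_restr D.act)).trans ((Category.assoc _ _ _).symm.trans h'))
    (by change _ ≫ snd G D.W ≫ D.w = _; rw [lift_snd_assoc]; exact h)).trans ?_
  change lift (lift g x ≫ fst G D.W) (D.s a (lift g x ≫ snd G D.W) _) ≫ _ = _
  rw [lift_fst, D.s_congr a (lift_snd g x) _ h]

theorem one_act : (η[G] ▷ D.W) ≫ D.act = (λ_ D.W).hom := by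
  refine D.ext (by simp [D.act_w, leftUnitor_hom]) fun a v h h' => ?_
  have e1 : v ≫ (η[G] ▷ D.W) ≫ D.act = lift (1 : a.obj.left ⟶ G) (v ≫ (λ_ D.W).hom) ≫ D.act := by
    rw [← Category.assoc]
    congr 1
    apply CartesianMonoidalCategory.hom_ext
    · simp [Hom.one_def]
      rw [← Category.assoc]; congr 1; exact toUnit_unique _ _
    · simp [leftUnitor_hom]
  rw [D.s_congr a e1 h (by rw [Category.assoc, D.act_w, lift_snd_assoc]; exact h'), D.s_act a 1 _ h', Act.one_smul]

theorem mul_act : (μ[G] ▷ D.W) ≫ D.act = (α_ G G D.W).hom ≫ (G ◁ D.act) ≫ D.act := by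
  refine D.ext (by simp [D.act_w]) fun a v h h' => ?_
  let g₁ := v ≫ fst (G ⊗ G) D.W ≫ fst G G
  let g₂ := v ≫ fst (G ⊗ G) D.W ≫ snd G G
  let x := v ≫ snd (G ⊗ G) D.W
  have e1 : v ≫ (μ[G] ▷ D.W) ≫ D.act = lift (g₁ * g₂) x ≫ D.act := by
    rw [← Category.assoc]; congr 1
    apply CartesianMonoidalCategory.hom_ext
    · simp [g₁, g₂, Hom.mul_def, ← comp_lift]
    · simp [x]
  have e2 : v ≫ (α_ G G D.W).hom ≫ (G ◁ D.act) ≫ D.act = lift g₁ (lift g₂ x ≫ D.act) ≫ D.act := by
    rw [← Category.assoc, ← Category.assoc]; congr 1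
    apply CartesianMonoidalCategory.hom_ext
    · simp [g₁]
    · rw [Category.assoc, Category.assoc, lift_snd, whiskerLeft_snd, ← Category.assoc, ← Category.assoc]
      congr 1
      apply CartesianMonoidalCategory.hom_ext <;> simp [g₂, x]
  have hx : x ≫ D.w = a.obj.hom := by
    rw [e1, Category.assoc, D.act_w, lift_snd_assoc] at h; exact h
  have hy : (lift g₂ x ≫ D.act) ≫ D.w = a.obj.hom := by rw [Category.assoc, D.act_w, lift_snd_assoc, hx]
  rw [D.s_congr a e1 h (by rw [Category.assoc, D.act_w, lift_snd_assoc]; exact hx),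
    D.s_congr a e2 h' (by rw [Category.assoc, D.act_w, lift_snd_assoc]; exact hy), D.s_act a _ x hx,
    D.s_act a g₁ _ hy, D.s_act a g₂ x hx, Act.mul_smul]

theorem exists_unique_div (a : (Stk.sieveCat R).obj) (x y : a.obj.left ⟶ D.W) (hx : x ≫ D.w = a.obj.hom)
    (hy : y ≫ D.w = a.obj.hom) :
    ∃! g : a.obj.left ⟶ G, lift g (D.s a x hx) ≫ (H.obj a).act.act = D.s a y hy := by
  let l := (H.obj a).cart.lift (D.s a y hy) (D.s a x hx) ((D.s_π a _ _).trans (D.s_π a _ _).symm)
  have hl : lift (l ≫ fst _ _) (D.s a x hx) = l := by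
    apply CartesianMonoidalCategory.hom_ext
    · simp
    · rw [lift_snd]; exact ((H.obj a).cart.lift_snd _ _ _).symm
  refine ⟨l ≫ fst _ _, by dsimp only; rw [hl]; exact (H.obj a).cart.lift_fst _ _ _, fun g hg => ?_⟩
  have : lift g (D.s a x hx) = l := (H.obj a).cart.hom_ext
    (hg.trans ((H.obj a).cart.lift_fst _ _ _).symm) ((lift_snd _ _).trans ((H.obj a).cart.lift_snd _ _ _).symm)
  rw [← this, lift_fst]

/-- The quotient of two points over a member of the sieve. -/
noncomputable def div (a : (Stk.sieveCat R).obj) (x y : a.obj.left ⟶ D.W) (hx : x ≫ D.w = a.obj.hom)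
    (hy : y ≫ D.w = a.obj.hom) : a.obj.left ⟶ G :=
  (D.exists_unique_div a x y hx hy).choose

theorem div_spec (a : (Stk.sieveCat R).obj) (x y : a.obj.left ⟶ D.W) (hx : x ≫ D.w = a.obj.hom)
    (hy : y ≫ D.w = a.obj.hom) :
    lift (D.div a x y hx hy) (D.s a x hx) ≫ (H.obj a).act.act = D.s a y hy :=
  (D.exists_unique_div a x y hx hy).choose_spec.1

theorem div_unique {a : (Stk.sieveCat R).obj} {x y : a.obj.left ⟶ D.W} {hx : x ≫ D.w = a.obj.hom}
    {hy : y ≫ D.w = a.obj.hom} {g : a.obj.left ⟶ G}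
    (h : lift g (D.s a x hx) ≫ (H.obj a).act.act = D.s a y hy) : g = D.div a x y hx hy :=
  (D.exists_unique_div a x y hx hy).choose_spec.2 g h

theorem div_congr (a : (Stk.sieveCat R).obj) {x y x' y' : a.obj.left ⟶ D.W} (e : x = x') (e' : y = y')
    (hx hy hx' hy') : D.div a x y hx hy = D.div a x' y' hx' hy' := by subst e; subst e'; rfl

theorem div_map {a b : (Stk.sieveCat R).obj} (m : a ⟶ b) (x y : b.obj.left ⟶ D.W) (hx hy hx' hy') :
    m.hom.left ≫ D.div b x y hx hy = D.div a (m.hom.left ≫ x) (m.hom.left ≫ y) hx' hy' := by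
  refine D.div_unique ?_
  apply (H.map m).cart.hom_ext
  · rw [lift_eqv, ← D.s_map m x hx, ← D.s_map m y hy, ← D.div_spec b x y hx hy, ← Category.assoc, comp_lift]
  · rw [lift_act_π, D.s_π, D.s_π]

section

variable {J : GrothendieckTopology (Over S)} [J.Subcanonical] (hR : R ∈ J U)
include hR

theorem exists_unique_lift {Z : Over S} (y x : Z ⟶ D.W) (hyx : y ≫ D.w = x ≫ D.w) :
    ∃! g : Z ⟶ G, lift g x ≫ D.act = y := by
  have hcov := J.pullback_stable (x ≫ D.w) hR
  obtain ⟨g, hg, -⟩ := exists_glue hcov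
    (fun V v hv => D.div (mem (v ≫ x ≫ D.w) hv) (v ≫ x) (v ≫ y) (Category.assoc _ _ _)
      (by rw [Category.assoc, hyx]; rfl))
    fun V V' k v hv => by
      let m : mem ((k ≫ v) ≫ x ≫ D.w) (by rw [Category.assoc]; exact R.downward_closed hv k) ⟶
        mem (v ≫ x ≫ D.w) hv := arr k (Category.assoc _ _ _).symm
      refine (D.div_map m (v ≫ x) (v ≫ y) (Category.assoc _ _ _) (by rw [Category.assoc, hyx]; rfl)
        (by change (k ≫ v ≫ x) ≫ D.w = (k ≫ v) ≫ x ≫ D.w; simp)
        (by change (k ≫ v ≫ y) ≫ D.w = (k ≫ v) ≫ x ≫ D.w; simp [hyx])).trans ?_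
      exact D.div_congr _ (Category.assoc _ _ _).symm (Category.assoc _ _ _).symm _ _ _ _
  refine ⟨g, D.ext (by rw [Category.assoc, D.act_w, lift_snd_assoc, hyx]) fun a v h h' => ?_, fun g' hg' => ?_⟩
  · have e : v ≫ lift g x ≫ D.act = lift (v ≫ g) (v ≫ x) ≫ D.act := by rw [← Category.assoc, comp_lift]
    have hx : (v ≫ x) ≫ D.w = a.obj.hom := by
      rw [e, Category.assoc, D.act_w, lift_snd_assoc] at h; exact h
    rw [D.s_congr a e h (e ▸ h), D.s_act a _ _ hx]
    have hv : R (v ≫ x ≫ D.w) := by rw [← Category.assoc, hx]; exact a.property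
    let i : a ⟶ mem (v ≫ x ≫ D.w) hv := arr (𝟙 _)
      ((Category.id_comp _).trans ((Category.assoc _ _ _).symm.trans hx))
    have e2 := D.div_map i (v ≫ x) (v ≫ y) (Category.assoc _ _ _) (by rw [Category.assoc, hyx]; rfl)
      (by rw [show i.hom.left ≫ v ≫ x = v ≫ x from Category.id_comp _]; exact hx)
      (by rw [show i.hom.left ≫ v ≫ y = v ≫ y from Category.id_comp _]; exact h')
    rw [hg v hv]
    have e3 := ((Category.id_comp _).symm.trans e2).trans
      (D.div_congr a (Category.id_comp (v ≫ x)) (Category.id_comp (v ≫ y)) _ _ hx h')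
    rw [e3]
    exact D.div_spec a _ _ hx h'
  · refine hom_ext_of_sieve hcov fun V v hv => ?_
    rw [hg v hv]
    subst hg'
    refine D.div_unique (a := mem (v ≫ x ≫ D.w) hv) (g := v ≫ g') ?_
    rw [← D.s_act (mem (v ≫ x ≫ D.w) hv) (v ≫ g') (v ≫ x) (Category.assoc _ _ _)
      (by rw [Category.assoc, D.act_w, lift_snd_assoc, Category.assoc]; rfl)]
    exact D.s_congr _ ((congrArg (· ≫ D.act) (comp_lift v g' x)).symm.trans (Category.assoc _ _ _)) _ _

omit hR in
/-- The action. -/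
noncomputable def action : AlgGrp.Action G D.W := ⟨D.act, D.one_act, D.mul_act⟩

theorem isPullback_act : IsPullback D.act (snd G D.W) D.w D.w := by
  refine IsPullback.of_isLimit' ⟨D.act_w⟩ (PullbackCone.IsLimit.mk _
    (fun c => lift (D.exists_unique_lift hR c.fst c.snd c.condition).choose c.snd)
    (fun c => (D.exists_unique_lift hR c.fst c.snd c.condition).choose_spec.1) (fun c => lift_snd _ _)
    fun c m h1 h2 => ?_)
  apply CartesianMonoidalCategory.hom_ext
  · rw [lift_fst]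
    refine (D.exists_unique_lift hR c.fst c.snd c.condition).choose_spec.2 (m ≫ fst G D.W) ?_
    rw [← h1, ← h2]; congr 1
    apply CartesianMonoidalCategory.hom_ext <;> simp
  · rw [lift_snd]; exact h2

theorem exists_φ : ∃ φ : D.W ⟶ X, ∀ (a : (Stk.sieveCat R).obj) (x : a.obj.left ⟶ D.W) (h : x ≫ D.w = a.obj.hom),
    x ≫ φ = D.s a x h ≫ (H.obj a).φ := by
  have hcovW := J.pullback_stable D.w hR
  obtain ⟨φ, hφ, -⟩ := exists_glue hcovW
    (fun V v hv => D.s (mem (v ≫ D.w) hv) v rfl ≫ (H.obj (mem (v ≫ D.w) hv)).φ) fun V V' k v hv => by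
      let m : mem ((k ≫ v) ≫ D.w) (by rw [Category.assoc]; exact R.downward_closed hv k) ⟶ mem (v ≫ D.w) hv :=
        arr k (Category.assoc _ _ _).symm
      have := D.s_map m v rfl rfl
      change k ≫ D.s (mem (v ≫ D.w) hv) v rfl ≫ _ = _
      rw [← Category.assoc]
      erw [this]
      rw [Category.assoc, (H.map m).wφ]
      rfl
  refine ⟨φ, fun a x h => ?_⟩
  have hv : R (x ≫ D.w) := by rw [h]; exact a.property
  let i : a ⟶ mem (x ≫ D.w) hv := arr (𝟙 _) ((Category.id_comp _).trans h)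
  have := D.s_map i x rfl (by rw [show i.hom.left ≫ x = x from Category.id_comp x]; exact h)
  rw [hφ x hv, ← (H.map i).wφ, ← Category.assoc]
  congr 1

/-- The map to `X`. -/
noncomputable def φ : D.W ⟶ X := (D.exists_φ hR).choose

theorem comp_φ (a : (Stk.sieveCat R).obj) (x : a.obj.left ⟶ D.W) (h : x ≫ D.w = a.obj.hom) :
    x ≫ D.φ hR = D.s a x h ≫ (H.obj a).φ :=
  (D.exists_φ hR).choose_spec a x h

theorem act_φ : D.act ≫ D.φ hR = (G ◁ D.φ hR) ≫ aX.act := by
  refine hom_ext_of_sieve (J.pullback_stable (snd G D.W ≫ D.w) hR) fun V v hv => ?_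
  let a := mem (v ≫ snd G D.W ≫ D.w) hv
  have hv' : v = lift (v ≫ fst G D.W) (v ≫ snd G D.W) := by
    apply CartesianMonoidalCategory.hom_ext <;> simp
  have hx : (v ≫ snd G D.W) ≫ D.w = a.obj.hom := Category.assoc _ _ _
  have hy : (lift (v ≫ fst G D.W) (v ≫ snd G D.W) ≫ D.act) ≫ D.w = a.obj.hom := by
    rw [Category.assoc, D.act_w, lift_snd_assoc]; exact hx
  rw [hv', ← Category.assoc, D.comp_φ hR a _ hy, D.s_act a _ _ hx hy, lift_act_φ, lift_whiskerLeft_assoc,
    ← D.comp_φ hR a _ hx]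

end

/-- The inclusion of the torsor over a member of the sieve. -/
noncomputable def top (a : (Stk.sieveCat R).obj) : (H.obj a).P ⟶ D.W :=
  (D.exists_restr (ofPt H a (𝟙 (H.obj a).P))).choose

theorem restr_top (a : (Stk.sieveCat R).obj) : D.univ.restr (D.top a) = ofPt H a (𝟙 (H.obj a).P) :=
  (D.exists_restr (ofPt H a (𝟙 (H.obj a).P))).choose_spec

theorem top_w (a : (Stk.sieveCat R).obj) :
    D.top a ≫ D.w = (H.obj a).π ≫ eqToHom (base_eq H a) ≫ a.obj.hom := by
  refine (D.base_restr _).symm.trans ((congrArg Sec.base (D.restr_top a)).trans ?_)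
  simp [ofPt]

theorem s_top {a b : (Stk.sieveCat R).obj} (v : b.obj.left ⟶ (H.obj a).P)
    (h : (v ≫ D.top a) ≫ D.w = b.obj.hom) (m : b ⟶ a)
    (hm : m.hom.left = v ≫ (H.obj a).π ≫ eqToHom (base_eq H a)) :
    D.s b (v ≫ D.top a) h ≫ (H.map m).top = v := by
  have hh : v ≫ (ofPt H a (𝟙 (H.obj a).P)).base = b.obj.hom := by
    rw [← D.restr_top]
    exact (congrArg (v ≫ ·) (D.base_restr _)).trans ((Category.assoc _ _ _).symm.trans h)
  refine (congrArg (· ≫ (H.map m).top) (Sec.congr' (D.restr_top a) v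
    ((congrArg (v ≫ ·) (D.base_restr _)).trans ((Category.assoc _ _ _).symm.trans h)) hh)).trans ?_
  exact (ofPt_sec_top H a _ b v hh m (by rw [hm, Category.id_comp])).trans (Category.comp_id v)

theorem isPullback_top (a : (Stk.sieveCat R).obj) :
    IsPullback (D.top a) ((H.obj a).π ≫ eqToHom (base_eq H a)) D.w a.obj.hom := by
  refine IsPullback.of_map_of_faithful (yon S) ((isPullback_incl H a).of_iso (Iso.refl _) D.e.symm
    (Iso.refl _) (Iso.refl _) ?_ (by simp) (by simp [← D.he]) (by simp))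
  rw [← cancel_mono D.e.hom]
  simp only [Iso.refl_hom, Category.id_comp, Iso.symm_hom, Category.assoc, Iso.inv_hom_id, Category.comp_id]
  ext Z x
  change ofPt H a x.down = (show Sec H Z.unop from D.e.hom.hom.app Z ⟨x.down ≫ D.top a⟩)
  rw [show (show Sec H Z.unop from D.e.hom.hom.app Z ⟨x.down ≫ D.top a⟩) = _ from D.app_eq (x.down ≫ D.top a),
    restr_comp, restr_top, ← ofPt_restr, Category.comp_id]

theorem isLocallyTrivial [K.IsStableUnderComposition] (hR : R ∈ QuotSh.J K S U) :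
    NonAbH1.IsLocallyTrivialFor K (Over.mk D.w.left : Over U.left) := by
  obtain ⟨R₀, hR₀, hmem⟩ := exists_family hR
  obtain ⟨J, Z, g, rfl⟩ := R₀.exists_eq_ofArrows
  let a (i : J) := mem (Over.homMk (g i) : Over.mk (g i ≫ U.hom) ⟶ U) (hmem _ (Presieve.ofArrows.mk i))
  have hl : ∀ i, NonAbH1.IsLocallyTrivialFor K
      (Over.mk ((H.obj (a i)).π ≫ eqToHom (base_eq H (a i))).left : Over (Z i)) := fun i => by
    refine isLocallyTrivialFor_of_isPullback (f := (eqToHom (base_eq H (a i)).symm).left) (t := 𝟙 _) ?_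
      (H.obj (a i)).loc
    refine IsPullback.of_horiz_isIso ⟨?_⟩
    change 𝟙 _ ≫ (H.obj (a i)).π.left = ((H.obj (a i)).π ≫ eqToHom (base_eq H (a i))).left ≫ _
    rw [Category.id_comp, ← Over.comp_left, Category.assoc, eqToHom_trans, eqToHom_refl, Category.comp_id]
  choose Ri hRi hsec using hl
  choose Ji Yi gi hRie using fun i => (Ri i).exists_eq_ofArrows
  refine ⟨_, Precoverage.comp_mem_coverings g hR₀ gi fun i => hRie i ▸ hRi i, ?_⟩
  rintro S' k ⟨⟨i, j⟩⟩
  obtain ⟨t, ht⟩ := hsec i (gi i j) (hRie i ▸ Presieve.ofArrows.mk j)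
  refine ⟨t ≫ (D.top (a i)).left, ?_⟩
  change (t ≫ (D.top (a i)).left) ≫ D.w.left = gi i j ≫ g i
  rw [Category.assoc, ← Over.comp_left, (D.isPullback_top (a i)).w, Over.comp_left]
  refine (Category.assoc _ _ _).symm.trans ?_
  exact congrArg (· ≫ g i) ht

theorem top_eqv (a : (Stk.sieveCat R).obj) :
    (H.obj a).act.act ≫ D.top a = (G ◁ D.top a) ≫ D.act := by
  refine D.ext ?_ fun b v h h' => ?_
  · rw [Category.assoc, Category.assoc, D.act_w, top_w, whiskerLeft_snd_assoc, top_w, ← Category.assoc,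
      (H.obj a).cart.w, Category.assoc]
  · let g := v ≫ fst G (H.obj a).P
    let x := v ≫ snd G (H.obj a).P
    have e1 : v ≫ (H.obj a).act.act ≫ D.top a = (lift g x ≫ (H.obj a).act.act) ≫ D.top a := by
      rw [← Category.assoc]; congr 2
      apply CartesianMonoidalCategory.hom_ext <;> simp [g, x]
    have e2 : v ≫ (G ◁ D.top a) ≫ D.act = lift g (x ≫ D.top a) ≫ D.act := by
      rw [← Category.assoc]; congr 1
      apply CartesianMonoidalCategory.hom_ext <;> simp [g, x]
    have hx : (x ≫ D.top a) ≫ D.w = b.obj.hom := by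
      rw [e2, Category.assoc, D.act_w, lift_snd_assoc] at h'; exact h'
    rw [D.s_congr b e1 h (e1 ▸ h), D.s_congr b e2 h' (e2 ▸ h'), D.s_act b g _ hx]
    let m : b ⟶ a := arr (x ≫ (H.obj a).π ≫ eqToHom (base_eq H a)) (by
      refine Eq.trans ?_ hx
      simp only [Category.assoc, top_w])
    apply (H.map m).cart.hom_ext
    · rw [lift_eqv, D.s_top x hx m rfl]
      exact D.s_top _ _ m ((Category.assoc _ _ _).symm.trans
        ((congrArg (· ≫ eqToHom (base_eq H a)) (lift_act_π (H.obj a) g x)).symm.trans (Category.assoc _ _ _)))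
    · rw [lift_act_π, D.s_π, D.s_π]

variable [K.IsStableUnderComposition] {J : GrothendieckTopology (Over S)} [J.Subcanonical]
  (hK : QuotSh.J K S ≤ J) (hR : R ∈ QuotSh.J K S U)
include hK hR

/-- The glued object. -/
noncomputable def obj : QuotObj K G aX where
  base := U
  P := D.W
  act := D.action
  π := D.w
  cart := D.isPullback_act (hK _ hR)
  loc := D.isLocallyTrivial hR
  φ := D.φ (hK _ hR)
  eqv := D.act_φ (hK _ hR)

theorem top_φ (a : (Stk.sieveCat R).obj) : D.top a ≫ D.φ (hK _ hR) = (H.obj a).φ := by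
  refine hom_ext_of_sieve (J.pullback_stable (D.top a ≫ D.w) (hK _ hR)) fun V v hv => ?_
  let b := mem (v ≫ D.top a ≫ D.w) hv
  have hb : (v ≫ D.top a) ≫ D.w = b.obj.hom := Category.assoc _ _ _
  let m : b ⟶ a := arr (v ≫ (H.obj a).π ≫ eqToHom (base_eq H a)) (by
    rw [Category.assoc, Category.assoc, ← top_w]; rfl)
  rw [← Category.assoc, D.comp_φ _ b _ hb, ← (H.map m).wφ, ← Category.assoc, D.s_top v hb m rfl]

/-- The morphism from the torsor over a member of the sieve to the glued object. -/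
noncomputable def homObj (a : (Stk.sieveCat R).obj) : H.obj a ⟶ D.obj hK hR where
  base := eqToHom (base_eq H a) ≫ a.obj.hom
  top := D.top a
  eqv := D.top_eqv a
  cart := (D.isPullback_top a).of_iso (Iso.refl _) (Iso.refl _) (eqToIso (base_eq H a).symm) (Iso.refl _)
      (by simp) (by simp) (by simp [obj]) (by simp)
  wφ := D.top_φ hK hR a

theorem map_homObj {a b : (Stk.sieveCat R).obj} (m : a ⟶ b) :
    H.map m ≫ D.homObj hK hR b = D.homObj hK hR a := by
  refine QuotObj.hom_ext ?_ (D.restr_inj ?_)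
  · change (H.map m).base ≫ eqToHom _ ≫ b.obj.hom = eqToHom _ ≫ a.obj.hom
    rw [map_base]
    simp [Over.w m.hom]
  · change D.univ.restr ((H.map m).top ≫ D.top b) = D.univ.restr (D.top a)
    rw [restr_comp, restr_top, restr_top, ← ofPt_restr, Category.comp_id]
    refine Sec.ext' ?_ fun c v h h' => ?_
    · change ((H.map m).top ≫ (H.obj b).π ≫ eqToHom _) ≫ b.obj.hom = (𝟙 _ ≫ (H.obj a).π ≫ eqToHom _) ≫ a.obj.hom
      rw [reassoc_of% (H.map m).cart.w, map_base]
      simp [Over.w m.hom]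
    let n : c ⟶ a := arr (v ≫ (H.obj a).π ≫ eqToHom (base_eq H a)) (by
      refine Eq.trans ?_ h'
      simp [ofPt])
    apply (H.map (n ≫ m)).cart.hom_ext
    · rw [ofPt_sec_top H b _ c v h (n ≫ m) (by
          change (v ≫ (H.obj a).π ≫ eqToHom (base_eq H a)) ≫ m.hom.left = _
          rw [Category.assoc, Category.assoc, reassoc_of% (H.map m).cart.w, map_base]
          simp),
        Functor.map_comp, QuotObj.comp_top, ← Category.assoc ((ofPt H a _).sec c v h'),
        ofPt_sec_top H a _ c v h' n (by simp [n, arr]), Category.comp_id]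
    · rw [(ofPt H b _).sec_π, (ofPt H a _).sec_π]

end Rep

/-- Descent of objects along a covering sieve. -/
theorem glueObj [K.IsStableUnderComposition] (hK : K ≤ Scheme.fppfPrecoverage)
    (hR : R ∈ QuotSh.J K S U) [IsAffineHom G.hom] : Fibred.Descent.GlueObj R (QuotSt K G aX) := by
  intro H
  obtain ⟨W, w, e, he⟩ := exists_rep H hK hR
  let D : Rep H := ⟨W, w, e, he⟩
  exact ⟨{
    pt := D.obj (le_fppf hK) hR
    proj := rfl
    «ι» := D.homObj (le_fppf hK) hR
    lifts := fun a => IsHomLift.of_fac' _ _ _ (base_eq H a) rfl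
      (show eqToHom (base_eq H a) ≫ a.obj.hom = _ by simp)
    w := fun a b m => D.map_homObj (le_fppf hK) hR m }⟩

/-- `[X/G]` is a stack for every topology between the trivial one and the fppf one. -/
theorem isStack [K.IsStableUnderComposition] (hK : K ≤ Scheme.fppfPrecoverage) [IsAffineHom G.hom] :
    Stk.IsStack (QuotSh.J K S) (QuotSt K G aX) :=
  ⟨isFibGrpd, fun _ R hR => (Fibred.Descent.isStackFor_iff (R := R) (isFibGrpd (aX := aX))).2
    ⟨sep (le_fppf hK _ hR), glueHom (le_fppf hK _ hR), glueObj hK hR⟩⟩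

end Groth.Agent.Lib.QuotSt
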