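import Groth.Agent.Lib.QuotSt.Stack
import Groth.Agent.Lib.AlgStack.EtaleBoot
import Groth.Agent.Lib.AlgSpMor.RelNorm.Str

/-!
# The atlas `X ⟶ [X/G]`
-/

set_option autoImplicit false
set_option backward.isDefEq.respectTransparency false
set_option backward.isDefEq.respectTransparency.types false

universe u

open CategoryTheory CategoryTheory.Limits MonoidalCategory CartesianMonoidalCategory MonObj GrpObj AlgebraicGeometry Opposite

namespace Groth.Agent.Lib.QuotSt

open AlgSt (QuotObj QuotSt quotMap ofOverCat toOverCat overMap ofSp ofSpMap RepByAlgSpWith)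
open AlgSp (Sp yon RepWith)
open AlgStack (BasedBasic.IsEquivOver.comp)
open FibCat (IsEquivOver overCat fp fpFst)

variable {S : Scheme.{u}} {K : Precoverage Scheme.{u}} [K.HasIsos] [K.IsStableUnderBaseChange]
  {G X : Over S} [GrpObj G]

variable (K) in
/-- The canonical map `X ⟶ [X/G]` on the slice. -/
noncomputable abbrev atlas (aX : AlgGrp.Action G X) : overCat X ⥤ᵇ QuotSt K G aX :=
  BasedFunctor.comp (ofOverCat X) (quotMap K G aX)

variable {aX : AlgGrp.Action G X}

/-- A vertical morphism is invertible. -/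
theorem isIso_of_base {A B : QuotObj K G aX} (m : A ⟶ B) [IsIso m.base] : IsIso m := by
  obtain ⟨l, ⟨h1, h2⟩, -⟩ := exists_factor m (𝟙 B) (inv m.base) (IsIso.inv_hom_id _)
  refine ⟨l, ?_, h2⟩
  obtain ⟨k, -, hu⟩ := exists_factor m m (𝟙 _) (Category.id_comp _)
  exact (hu (m ≫ l) ⟨(congrArg (m.base ≫ ·) h1).trans (IsIso.hom_inv_id _), by rw [Category.assoc, h2, Category.comp_id]⟩).trans
    (hu (𝟙 A) ⟨rfl, Category.id_comp _⟩).symm

/-- Morphisms with the same base into an object mapping further are equal if the composites are. -/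
theorem cancel {A B C : QuotObj K G aX} {f g : A ⟶ B} (m : B ⟶ C) (hb : f.base = g.base)
    (h : f ≫ m = g ≫ m) : f = g := by
  obtain ⟨k, -, hu⟩ := exists_factor m (f ≫ m) f.base rfl
  exact (hu f ⟨rfl, rfl⟩).trans (hu g ⟨hb.symm, h.symm⟩).symm

section Chart

variable {T : Over S} (y : overCat T ⥤ᵇ QuotSt K G aX)

/-- The object classified by a functor from a slice. -/
abbrev obj₀ : QuotObj K G aX := y.obj (Over.mk (𝟙 T))

theorem base_obj (q : Over T) : (y.obj q).base = q.left := y.w_obj q

theorem map_base {q q' : Over T} (f : q ⟶ q') :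
    (y.map f).base = eqToHom (base_obj y q) ≫ f.left ≫ eqToHom (base_obj y q').symm :=
  CategoryTheory.Functor.congr_hom y.w f

/-- The projection of the torsor. -/
def proj : (obj₀ y).P ⟶ T := (obj₀ y).π ≫ eqToHom (base_obj y _)

/-- The point of the slice of `T` under a point of the torsor. -/
abbrev under (g : Over (obj₀ y).P) : Over T := Over.mk (g.hom ≫ proj y)

/-- The point of the slice of `X` under a point of the torsor. -/
abbrev toX (g : Over (obj₀ y).P) : Over X := Over.mk (g.hom ≫ (obj₀ y).φ)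

/-- Functoriality of `under`. -/
abbrev underMap {g g' : Over (obj₀ y).P} (f : g ⟶ g') : under y g ⟶ under y g' :=
  Over.homMk f.left (by
    change f.left ≫ g'.hom ≫ proj y = g.hom ≫ proj y
    exact (Category.assoc _ _ _).symm.trans (congrArg (· ≫ proj y) (Over.w f)))

/-- Functoriality of `toX`. -/
abbrev toXMap {g g' : Over (obj₀ y).P} (f : g ⟶ g') : toX y g ⟶ toX y g' :=
  Over.homMk f.left (by
    change f.left ≫ g'.hom ≫ (obj₀ y).φ = g.hom ≫ (obj₀ y).φ
    exact (Category.assoc _ _ _).symm.trans (congrArg (· ≫ (obj₀ y).φ) (Over.w f)))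

theorem exists_triv (g : Over (obj₀ y).P) :
    ∃ e : y.obj (under y g) ≅ (atlas K aX).obj (Over.mk (g.hom ≫ (obj₀ y).φ)),
      e.hom.base = eqToHom (base_obj y _) ∧
      y.map (AlgStack.Yoneda.toId (under y g)) =
        e.hom ≫ ofPoint (g.hom ≫ (obj₀ y).φ) (g.hom ≫ (obj₀ y).π) g.hom rfl rfl := by
  let n := y.map (AlgStack.Yoneda.toId (under y g))
  let m : trivObj K aX (g.hom ≫ (obj₀ y).φ) ⟶ obj₀ y :=
    ofPoint (g.hom ≫ (obj₀ y).φ) (g.hom ≫ (obj₀ y).π) g.hom rfl rfl
  obtain ⟨l, ⟨h1, h2⟩, -⟩ := exists_factor m n (eqToHom (base_obj y (under y g))) (by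
    rw [map_base]
    change eqToHom _ ≫ g.hom ≫ (obj₀ y).π = eqToHom _ ≫ (g.hom ≫ proj y) ≫ eqToHom _
    simp [proj])
  have : IsIso l.base := h1 ▸ inferInstance
  have := isIso_of_base l
  exact ⟨asIso l, h1, h2.symm⟩

/-- The comparison of the two families over a point of the torsor. -/
noncomputable def trivIso (g : Over (obj₀ y).P) :
    y.obj (under y g) ≅ (atlas K aX).obj (Over.mk (g.hom ≫ (obj₀ y).φ)) :=
  (exists_triv y g).choose

theorem trivIso_base (g : Over (obj₀ y).P) : (trivIso y g).hom.base = eqToHom (base_obj y _) :=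
  (exists_triv y g).choose_spec.1

theorem trivIso_comp (g : Over (obj₀ y).P) :
    y.map (AlgStack.Yoneda.toId (under y g)) = (trivIso y g).hom ≫
      ofPoint (g.hom ≫ (obj₀ y).φ) (g.hom ≫ (obj₀ y).π) g.hom rfl rfl :=
  (exists_triv y g).choose_spec.2

theorem point_comp_atlas {A : QuotObj K G aX} {g g' : Over X} (f : g ⟶ g')
    (m : trivObj K aX g'.hom ⟶ A) :
    point (A := A) (x := g.hom) ((atlas K aX).map f ≫ m) = f.left ≫ point m := by
  change lift 1 (𝟙 _) ≫ (G ◁ f.left) ≫ m.top = f.left ≫ lift 1 (𝟙 _) ≫ m.top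
  rw [lift_whiskerLeft_assoc, comp_lift_assoc, MonObj.comp_one, Category.id_comp, Category.comp_id]

theorem trivIso_naturality {g g' : Over (obj₀ y).P} (f : g ⟶ g') :
    y.map (underMap y f) ≫ (trivIso y g').hom = (trivIso y g).hom ≫ (atlas K aX).map (toXMap y f) := by
  refine cancel (ofPoint (g'.hom ≫ (obj₀ y).φ) (g'.hom ≫ (obj₀ y).π) g'.hom rfl rfl) ?_ ?_
  · change (y.map _).base ≫ (trivIso y g').hom.base = (trivIso y g).hom.base ≫ f.left
    rw [trivIso_base, trivIso_base, map_base]
    simp
  · rw [Category.assoc, Category.assoc, ← trivIso_comp, ← Functor.map_comp]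
    have e : underMap y f ≫ AlgStack.Yoneda.toId (under y g') = AlgStack.Yoneda.toId (under y g) :=
      Over.OverMorphism.ext (Over.w (underMap y f))
    rw [e, trivIso_comp]
    congr 1
    refine hom_ext_of_point ?_
    refine Eq.trans ?_ (point_comp_atlas (toXMap y f) _).symm
    refine (point_ofPoint _ _ _ rfl rfl).trans ?_
    exact (Over.w f).symm.trans (congrArg (f.left ≫ ·) (point_ofPoint _ _ _ rfl rfl).symm)

theorem trivIso_isHomLift (g : Over (obj₀ y).P) :
    (QuotSt K G aX).p.IsHomLift (𝟙 g.left) (trivIso y g).hom := by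
  have hb : (QuotSt K G aX).p.obj ((atlas K aX).obj (toX y g)) = g.left := (atlas K aX).w_obj (toX y g)
  refine IsHomLift.of_fac' (QuotSt K G aX).p (𝟙 g.left) (trivIso y g).hom (base_obj y (under y g)) hb ?_
  refine (trivIso_base y g).trans ?_
  simp

/-- The object of the fibre product under a point of the torsor. -/
noncomputable def liftObj (g : Over (obj₀ y).P) : (fp y (atlas K aX)).obj :=
  AlgStack.FibProd.objMk (F := y) (G := atlas K aX) (under y g) (toX y g) (trivIso y g)
    (trivIso_isHomLift y g)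

/-- Functoriality of `liftObj`. -/
noncomputable def liftMap {g g' : Over (obj₀ y).P} (f : g ⟶ g') : liftObj y g ⟶ liftObj y g' :=
  AlgStack.FibProd.homMk (F := y) (G := atlas K aX) (x := liftObj y g) (y := liftObj y g')
    (underMap y f) (toXMap y f) (trivIso_naturality y f)

/-- The torsor maps to the fibre product with the atlas. -/
noncomputable def torsorLift : overCat (obj₀ y).P ⥤ᵇ fp y (atlas K aX) where
  toFunctor :=
    { obj := fun g => liftObj y g
      map := fun {g g'} f => liftMap y f
      map_id := fun g => AlgStack.FibProd.hom_ext rfl rfl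
      map_comp := fun f f' => AlgStack.FibProd.hom_ext rfl rfl }
  w := rfl

theorem torsorLift_fst : BasedFunctor.comp (torsorLift y) (fpFst y (atlas K aX)) = overMap (proj y) := rfl

theorem isEquivOver_torsorLift : IsEquivOver (torsorLift y) := by
  have : (torsorLift y).toFunctor.Faithful := ⟨fun {a b f f'} h =>
    Over.OverMorphism.ext (congrArg (fun m => m.hom.fst.left) h :)⟩
  have : (torsorLift y).toFunctor.Full := ⟨fun {a b} m => by
    change Over (obj₀ y).P at a b
    have hm : (overCat X).p.IsHomLift ((fp y (atlas K aX)).p.map m) m.hom.snd :=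
      FibCat.fp_isHomLift_snd y (atlas K aX) m
    have hv : m.hom.snd.left = m.hom.fst.left :=
      (@IsHomLift.eq_of_isHomLift _ _ _ _ (Over.forget X) _ _ _ _ hm).symm
    let v : a.left ⟶ b.left := m.hom.fst.left
    let k : Over.mk (v ≫ b.hom) ⟶ b := Over.homMk v
    have w := m.hom.w
    have hw : v ≫ b.hom = a.hom := by
      have h1 : y.map m.hom.fst ≫ y.map (AlgStack.Yoneda.toId (under y b)) =
          y.map (AlgStack.Yoneda.toId (under y a)) := by
        rw [← Functor.map_comp]
        exact congrArg _ (Over.OverMorphism.ext (Over.w m.hom.fst))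
      rw [trivIso_comp, trivIso_comp, ← Category.assoc] at h1
      erw [w] at h1
      rw [Category.assoc] at h1
      have h2 := (cancel_epi (trivIso y a).hom).1 h1
      have h3 := congrArg (point (A := obj₀ y) (x := a.hom ≫ (obj₀ y).φ)) h2
      rw [point_ofPoint] at h3
      refine Eq.trans ?_ ((point_comp_atlas m.hom.snd _).symm.trans h3)
      exact (congrArg (· ≫ b.hom) hv.symm).trans (congrArg (m.hom.snd.left ≫ ·) (point_ofPoint _ _ _ rfl rfl).symm)
    exact ⟨Over.homMk v hw, AlgStack.FibProd.hom_ext (Over.OverMorphism.ext rfl) (Over.OverMorphism.ext hv.symm)⟩⟩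
  refine AlgStack.BasedBasic.isEquivOver_of _ fun z => ?_
  obtain ⟨⟨q, r, e⟩, he⟩ := z
  change Over T at q
  change Over X at r
  change y.obj q ≅ (atlas K aX).obj r at e
  change (QuotSt K G aX).p.IsHomLift (𝟙 q.left) e.hom at he
  obtain ⟨qT, qh, rfl⟩ := q.mk_surjective
  have hr : r.left = qT := @IsHomLift.codomain_eq _ _ _ _ (QuotSt K G aX).p _ _ _ _ _ _ he
  obtain ⟨rT, rh, rfl⟩ := r.mk_surjective
  change rT = qT at hr
  subst hr
  have heb : e.hom.base = eqToHom (base_obj y (Over.mk qh)) := by
    have : (QuotSt K G aX).p.IsHomLift (𝟙 rT) e.hom := he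
    have := IsHomLift.fac' (QuotSt K G aX).p (𝟙 rT) e.hom
    exact this.trans (by simp)
  let m : trivObj K aX rh ⟶ obj₀ y := e.inv ≫ y.map (AlgStack.Yoneda.toId (Over.mk qh))
  have hib : e.inv.base = eqToHom (base_obj y (Over.mk qh)).symm := by
    have := congrArg (fun k => k.base) e.inv_hom_id
    simp only [QuotObj.comp_base, heb] at this
    exact (cancel_mono (eqToHom (base_obj y (Over.mk qh)))).1 (this.trans (by simp))
  have hmb : m.base = qh ≫ eqToHom (base_obj y (Over.mk (𝟙 T))).symm := by
    change e.inv.base ≫ _ = _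
    rw [hib, map_base]
    simp
  let g : Over (obj₀ y).P := Over.mk (point m)
  have hq : point m ≫ proj y = qh := by
    rw [proj, ← Category.assoc, point_π, hmb]; simp
  have hx : point m ≫ (obj₀ y).φ = rh := point_φ m
  refine ⟨g, ?_⟩
  let i₁ : under y g ≅ Over.mk qh := Over.isoMk (Iso.refl _) (by simp [under, g, hq])
  let i₂ : toX y g ≅ Over.mk rh := Over.isoMk (Iso.refl _) (by simp [toX, g, hx])
  refine AlgStack.FibProd.exists_iso_over (x := (torsorLift y).obj g)
    (y := ⟨⟨Over.mk qh, Over.mk rh, e⟩, he⟩) i₁ i₂ ?_ ?_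
  · refine cancel m ?_ ?_
    · change (y.map i₁.hom).base ≫ e.hom.base = (trivIso y g).hom.base ≫ 𝟙 _
      rw [trivIso_base, heb, map_base]
      simp [i₁, g]
    · rw [Category.assoc, Category.assoc]
      change y.map i₁.hom ≫ e.hom ≫ e.inv ≫ _ = (trivIso y g).hom ≫ _
      rw [Iso.hom_inv_id_assoc, ← Functor.map_comp]
      have e₁ : i₁.hom ≫ AlgStack.Yoneda.toId (Over.mk qh) = AlgStack.Yoneda.toId (under y g) :=
        Over.OverMorphism.ext ((Category.id_comp qh).trans hq.symm)
      refine (congrArg (fun z => y.map z) e₁).trans ?_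
      rw [trivIso_comp]
      congr 1
      refine hom_ext_of_point ?_
      refine (point_ofPoint _ _ _ rfl rfl).trans ?_
      exact (Category.id_comp (point m)).symm.trans
        (point_comp_atlas (g := toX y g) (g' := Over.mk rh) i₂.hom m).symm
  · exact IsHomLift.of_fac' _ _ _ rfl rfl (by simp [i₁]; rfl)

theorem property_proj {P : MorphismProperty Scheme.{u}} [IsZariskiLocalAtTarget P]
    [P.IsStableUnderBaseChange] [P.DescendsAlong (@Surjective ⊓ @Flat ⊓ @QuasiCompact)]
    (hK : K ≤ Scheme.fpqcPrecoverage) (hG : P G.hom) : P (proj y).left := by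
  rw [proj, Over.comp_left, P.cancel_right_of_respectsIso]
  exact property_π hK (obj₀ y) hG

end Chart

/-- The atlas has the properties of the projections of torsors. -/
theorem repByAlgSpWith_atlas {P : MorphismProperty (Sp S)}
    (h : ∀ {T : Over S} (y : overCat T ⥤ᵇ QuotSt K G aX), P ((yon S).map (proj y))) :
    RepByAlgSpWith P (atlas K aX) := fun T y => by
  refine ⟨(AlgSp.ofScheme S).obj (obj₀ y).P, BasedFunctor.comp (toOverCat _) (torsorLift y),
    AlgStack.BasedBasic.IsEquivOver.comp (AlgStack.Rep.isEquivOver_toOverCat _) (isEquivOver_torsorLift y), ?_⟩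
  have e : BasedFunctor.comp (BasedFunctor.comp (toOverCat _) (torsorLift y)) (fpFst y (atlas K aX)) =
      BasedFunctor.comp (ofSpMap ((yon S).map (proj y))) (toOverCat T) := rfl
  rw [e, AlgStack.Rep.spMapOfOver_ofSpMap_toOverCat]
  exact h y

/-- An affine morphism of schemes is affine as a morphism of spaces. -/
theorem isAffineMor_yon_map {A B : Over S} (f : A ⟶ B) (hf : IsAffineHom f.left) :
    AlgSp.IsAffineMor ((yon S).map f) := by
  intro Z hZ g
  obtain ⟨m, rfl⟩ := (yon S).map_surjective g
  refine ⟨pullback f m, pullback.snd f m, (yon S).map (pullback.fst f m),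
    AlgSpace.isPullback_yon (IsPullback.of_hasPullback f m), ?_⟩
  have : IsAffineHom (pullback.snd f m).left := MorphismProperty.of_isPullback (P := @IsAffineHom)
    ((IsPullback.of_hasPullback f m).map (Over.forget S)) hf
  exact isAffine_of_isAffineHom (pullback.snd f m).left

theorem isSurjectiveMor_yon_map {A B : Over S} (f : A ⟶ B) (hf : Surjective f.left) :
    AlgSp.IsSurjectiveMor ((yon S).map f) :=
  AlgSpace.surjective_map ((AlgSp.repWith_yon_map_iff _ _).2 hf)

/-- The torsors have sections locally, hence are surjective. -/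
theorem surjective_π (hK : K ≤ Scheme.fpqcPrecoverage) (A : QuotObj K G aX) : Surjective A.π.left :=
  property_π (P := @Surjective) hK A ⟨fun s => ⟨(η[G] : 𝟙_ (Over S) ⟶ G).left s, by
    rw [← Scheme.Hom.comp_apply, Over.w]; rfl⟩⟩

theorem surjective_proj (hK : K ≤ Scheme.fpqcPrecoverage) {T : Over S} (y : overCat T ⥤ᵇ QuotSt K G aX) :
    Surjective (proj y).left := by
  rw [proj, Over.comp_left]
  have := surjective_π hK (obj₀ y)
  infer_instance

end Groth.Agent.Lib.QuotSt
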