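import Groth.Agent.Lib.QuotSt.Stack

/-!
# Invariant maps factor uniquely through `[X/G]`
-/

set_option autoImplicit false
set_option backward.isDefEq.respectTransparency false
set_option backward.isDefEq.respectTransparency.types false

universe u

open CategoryTheory CategoryTheory.Limits MonoidalCategory CartesianMonoidalCategory MonObj GrpObj AlgebraicGeometry Opposite

namespace Groth.Agent.Lib.QuotSt

open AlgSt (QuotObj QuotSt quotMap ofSp ofSpMap)
open AlgSp (Sp yon)

variable {S : Scheme.{u}} {K : Precoverage Scheme.{u}} [K.HasIsos] [K.IsStableUnderBaseChange]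
  {G X : Over S} [GrpObj G] {aX : AlgGrp.Action G X} {F : Sp S} (f : (yon S).obj X ⟶ F)

/-- The section given by a point of `X`. -/
noncomputable abbrev fx {T : Over S} (x : T ⟶ X) : F.obj.obj (op T) := f.hom.app (op T) ⟨x⟩

omit [GrpObj G] in
theorem map_fx {T T' : Over S} (v : T' ⟶ T) (x : T ⟶ X) : F.obj.map v.op (fx f x) = fx f (v ≫ x) :=
  (NatTrans.naturality_apply f.hom v.op ⟨x⟩).symm

omit [K.HasIsos] [K.IsStableUnderBaseChange] in
theorem fx_congr (hf : (yon S).map aX.act ≫ f = (yon S).map (snd G X) ≫ f) {T : Over S} (h : T ⟶ G ⊗ X) :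
    fx f (h ≫ aX.act) = fx f (h ≫ snd G X) :=
  congrArg (fun k : (yon S).obj (G ⊗ X) ⟶ F => k.hom.app (op T) ⟨h⟩) hf

omit [K.IsStableUnderBaseChange] in
/-- The projection of a torsor generates a covering sieve. -/
theorem generate_π_mem (hK : K ≤ Scheme.fppfPrecoverage) (A : QuotObj K G aX) :
    Sieve.generate (Presieve.singleton A.π) ∈ AlgSp.J S A.base := by
  obtain ⟨R₀, hR₀, hs⟩ := A.loc
  rw [GrothendieckTopology.mem_over_iff]
  refine GrothendieckTopology.superset_covering _ ?_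
    (Precoverage.generate_mem_toGrothendieck (hK _ hR₀))
  rw [Sieve.generate_le_iff]
  intro T' g hg
  obtain ⟨s, hs'⟩ := hs g hg
  have hs'' : s ≫ A.π.left = g := hs'
  let s' : Over.mk (g ≫ A.base.hom) ⟶ A.P := Over.homMk s (by
    rw [← Over.w A.π, ← Category.assoc, hs'']; rfl)
  refine (Sieve.overEquiv_iff _ g).2 ⟨A.P, s', A.π, Presieve.singleton_self _, ?_⟩
  exact Over.OverMorphism.ext hs''

omit [K.IsStableUnderBaseChange] in
/-- The invariant map descends to the base of every object. -/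
theorem existsUnique_desc (hK : K ≤ Scheme.fppfPrecoverage)
    (hf : (yon S).map aX.act ≫ f = (yon S).map (snd G X) ≫ f) (A : QuotObj K G aX) :
    ∃! c : F.obj.obj (op A.base), F.obj.map A.π.op c = fx f A.φ := by
  have hF : Presieve.IsSheaf (AlgSp.J S) F.obj := (isSheaf_iff_isSheaf_of_type _ _).1 F.property
  have h := (Presieve.isSheafFor_iff_generate _).2 (hF _ (generate_π_mem hK A))
  refine Presieve.isSheafFor_singleton.1 h (fx f A.φ) fun {V} p₁ p₂ hp => ?_
  rw [map_fx, map_fx]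
  let l := A.cart.lift p₁ p₂ hp
  have hl : lift (l ≫ fst _ _) p₂ = l := by
    apply CartesianMonoidalCategory.hom_ext
    · simp
    · rw [lift_snd]; exact (A.cart.lift_snd _ _ _).symm
  have e : p₁ ≫ A.φ = lift (l ≫ fst _ _) (p₂ ≫ A.φ) ≫ aX.act := by
    rw [← lift_act_φ, hl, A.cart.lift_fst]
  rw [e, fx_congr f hf, lift_snd]

/-- The section of an element at a given base. -/
noncomputable def res (a : Stk.EltObj F.obj) {T : Over S} (e : a.base = T) : F.obj.obj (op T) :=
  F.obj.map (eqToHom e.symm).op a.sec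

omit [GrpObj G] in
theorem res_rfl (a : Stk.EltObj F.obj) : res a rfl = a.sec := by simp [res]

omit [GrpObj G] in
theorem res_congr {a b : Stk.EltObj F.obj} (e : a = b) {T : Over S} (ea : a.base = T) (eb : b.base = T) :
    res a ea = res b eb := by subst e; rfl

omit [GrpObj G] in
theorem eq_mk_res (a : Stk.EltObj F.obj) {T : Over S} (e : a.base = T) : a = ⟨T, res a e⟩ := by
  subst e
  rw [res_rfl]

omit [GrpObj G] in
theorem map_res {a b : Stk.EltObj F.obj} (k : a ⟶ b) {T U : Over S} (ea : a.base = T) (eb : b.base = U)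
    (v : T ⟶ U) (hk : k.hom = eqToHom ea ≫ v ≫ eqToHom eb.symm) :
    F.obj.map v.op (res b eb) = res a ea := by
  subst ea eb
  simp only [eqToHom_refl, Category.id_comp, Category.comp_id] at hk
  rw [res_rfl, res_rfl, ← hk]
  exact k.map_sec

theorem functor_ext {𝒳 : AlgSt.Cat S} {Φ Ψ : 𝒳 ⥤ᵇ ofSp F} (h : ∀ a, Φ.obj a = Ψ.obj a) : Φ = Ψ := by
  obtain ⟨Φ', hΦ⟩ := Φ
  obtain ⟨Ψ', hΨ⟩ := Ψ
  congr 1
  refine CategoryTheory.Functor.ext h fun a b m => Stk.EltObj.hom_ext ?_
  have e1 := CategoryTheory.Functor.congr_hom hΦ m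
  have e2 := CategoryTheory.Functor.congr_hom hΨ m
  have hE : ∀ {x y : Stk.EltObj F.obj} (e : x = y), (eqToHom e : x ⟶ y).hom =
      eqToHom (congrArg Stk.EltObj.base e) := fun e => by subst e; rfl
  rw [Stk.EltObj.comp_hom, Stk.EltObj.comp_hom, hE, hE]
  change (Φ'.map m).hom = eqToHom _ ≫ (Ψ'.map m).hom ≫ eqToHom _
  refine Eq.trans e1 ?_
  refine Eq.trans ?_ (congrArg (fun k => eqToHom _ ≫ k ≫ eqToHom _) e2).symm
  simp

theorem existsUnique_factor (hK : K ≤ Scheme.fppfPrecoverage)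
    (hf : (yon S).map aX.act ≫ f = (yon S).map (snd G X) ≫ f) :
    ∃! Φ : QuotSt K G aX ⥤ᵇ ofSp F, BasedFunctor.comp (quotMap K G aX) Φ = ofSpMap f := by
  choose c hc hcu using fun A : QuotObj K G aX => existsUnique_desc f hK hf A
  let Φ : QuotSt K G aX ⥤ᵇ ofSp F :=
    { toFunctor :=
        { obj := fun A => ⟨A.base, c A⟩
          map := fun {A B} m => ⟨m.base, hcu A _ (by
            change F.obj.map A.π.op (F.obj.map m.base.op (c B)) = fx f A.φ
            rw [← Functor.map_comp_apply, ← op_comp, ← m.cart.w, op_comp, Functor.map_comp_apply, hc B,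
              map_fx, m.wφ])⟩
          map_id := fun A => Stk.EltObj.hom_ext rfl
          map_comp := fun m n => Stk.EltObj.hom_ext rfl }
      w := rfl }
  refine ⟨Φ, functor_ext fun a => ?_, fun Ψ hΨ => functor_ext fun A => ?_⟩
  · obtain ⟨T, ⟨x⟩⟩ := a
    refine congrArg (Stk.EltObj.mk (P := F.obj) T) ?_
    change c (trivObj K aX x) = fx f x
    refine (hcu (trivObj K aX x) (fx f x) ?_).symm
    change F.obj.map (snd G T).op (fx f x) = fx f ((G ◁ x) ≫ aX.act)
    rw [map_fx, fx_congr f hf, whiskerLeft_snd]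
  · refine (eq_mk_res (Ψ.obj A) (Ψ.w_obj A)).trans (congrArg (Stk.EltObj.mk (P := F.obj) A.base) ?_)
    let m : trivObj K aX A.φ ⟶ A := ofPoint A.φ A.π (𝟙 A.P) (Category.id_comp _) (Category.id_comp _)
    refine hcu A _ ?_
    refine (map_res (Ψ.map m) (Ψ.w_obj _) (Ψ.w_obj A) A.π (CategoryTheory.Functor.congr_hom Ψ.w m)).trans ?_
    have hobj : ∀ o, (BasedFunctor.comp (quotMap K G aX) Ψ).toFunctor.obj o = (ofSpMap f).obj o :=
      fun o => by rw [show BasedFunctor.comp (quotMap K G aX) Ψ = ofSpMap f from hΨ]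
    exact (res_congr (hobj ⟨A.P, ⟨A.φ⟩⟩) _ rfl).trans (res_rfl _)

end Groth.Agent.Lib.QuotSt
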