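import Groth.Prelude.Def_AlgSt5
import Groth.Agent.Lib.Fibred.Descent

/-!
# The quotient category `[X/G]`: base change, morphisms, local triviality
-/

set_option autoImplicit false
set_option backward.isDefEq.respectTransparency false
set_option backward.isDefEq.respectTransparency.types false

universe u

open CategoryTheory CategoryTheory.Limits MonoidalCategory CartesianMonoidalCategory MonObj GrpObj AlgebraicGeometry

namespace Groth.Agent.Lib.QuotSt

open AlgSt (QuotObj QuotSt leftMul quotMap ofSch)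

variable {S : Scheme.{u}} {K : Precoverage Scheme.{u}} {G X : Over S} [GrpObj G] {aX : AlgGrp.Action G X}

namespace Act

variable {P : Over S} (a : AlgGrp.Action G P)

theorem one_smul {W : Over S} (p : W ⟶ P) : lift (1 : W ⟶ G) p ≫ a.act = p := by
  have h : lift (1 : W ⟶ G) p = lift (toUnit W) p ≫ (η[G] ▷ P) := by
    rw [lift_whiskerRight, Hom.one_def]
  rw [h, Category.assoc, a.one_act, lift_leftUnitor_hom]

theorem mul_smul {W : Over S} (g h : W ⟶ G) (p : W ⟶ P) :
    lift (g * h) p ≫ a.act = lift g (lift h p ≫ a.act) ≫ a.act := by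
  have e : lift (g * h) p = lift (lift g h) p ≫ (μ[G] ▷ P) := by
    rw [lift_whiskerRight, Hom.mul_def]
  rw [e, Category.assoc, a.mul_act, lift_lift_associator_hom_assoc, lift_whiskerLeft_assoc]

end Act

variable [K.HasIsos]

/-- The sections over a covering pulled back along a morphism. -/
theorem isLocallyTrivialFor_of_isPullback [K.IsStableUnderBaseChange] {T T' : Scheme.{u}} {P : Over T}
    {P' : Over T'} {f : T' ⟶ T} {t : P'.left ⟶ P.left} (sq : IsPullback t P'.hom P.hom f)
    (h : NonAbH1.IsLocallyTrivialFor K P) : NonAbH1.IsLocallyTrivialFor K P' := by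
  obtain ⟨R, hR, hs⟩ := h
  refine ⟨R.pullbackArrows f, Precoverage.pullbackArrows_mem f hR, ?_⟩
  intro S' g hg
  cases hg with
  | @mk Z z hz =>
    obtain ⟨s, hs⟩ := hs z hz
    exact ⟨sq.lift (pullback.fst _ _ ≫ s) (pullback.snd _ _) (by
      rw [Category.assoc, hs, pullback.condition]), sq.lift_snd _ _ _⟩

namespace Obj

variable (A : QuotObj K G aX) {T : Over S} (f : T ⟶ A.base)

/-- The action on the base change of a torsor. -/
noncomputable def pullAct : AlgGrp.Action G (pullback A.π f) where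
  act := pullback.lift ((G ◁ pullback.fst A.π f) ≫ A.act.act) (snd _ _ ≫ pullback.snd A.π f) (by
    rw [Category.assoc, A.cart.w, whiskerLeft_snd_assoc, Category.assoc, pullback.condition])
  one_act := by
    apply pullback.hom_ext
    · rw [Category.assoc, pullback.lift_fst, ← whisker_exchange_assoc, A.act.one_act,
        id_whiskerLeft, Category.assoc, Category.assoc, Iso.inv_hom_id, Category.comp_id]
    · simp [leftUnitor_hom]
  mul_act := by
    apply pullback.hom_ext
    · simp only [Category.assoc, pullback.lift_fst, ← whiskerLeft_comp_assoc]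
      rw [whiskerLeft_comp_assoc, ← whisker_exchange_assoc, A.act.mul_act]
      simp [tensor_whiskerLeft]
    · simp

/-- The base change of an object. -/
noncomputable def pull [K.IsStableUnderBaseChange] : QuotObj K G aX where
  base := T
  P := pullback A.π f
  act := pullAct A f
  π := pullback.snd A.π f
  cart := by
    refine IsPullback.of_right (h₁₂ := pullback.fst A.π f) (v₁₃ := A.π) (h₂₂ := f) ?_
      (pullback.lift_snd _ _ _) (IsPullback.of_hasPullback A.π f)
    have e : (pullAct A f).act ≫ pullback.fst A.π f = (G ◁ pullback.fst A.π f) ≫ A.act.act :=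
      pullback.lift_fst _ _ _
    rw [e, ← pullback.condition]
    exact (AlgSt.isPullback_whiskerLeft (G := G) (pullback.fst A.π f)).paste_horiz A.cart
      |>.of_iso (Iso.refl _) (Iso.refl _) (Iso.refl _) (Iso.refl _) (by simp) (by simp) (by simp) (by simp)
  loc := isLocallyTrivialFor_of_isPullback
    ((IsPullback.of_hasPullback A.π f).map (Over.forget S)) A.loc
  φ := pullback.fst A.π f ≫ A.φ
  eqv := by
    change pullback.lift _ _ _ ≫ _ = _
    rw [pullback.lift_fst_assoc, Category.assoc, A.eqv, whiskerLeft_comp, Category.assoc]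

/-- The cartesian morphism from the base change. -/
noncomputable def pullHom [K.IsStableUnderBaseChange] : pull A f ⟶ A where
  base := f
  top := pullback.fst A.π f
  eqv := pullback.lift_fst _ _ _
  cart := IsPullback.of_hasPullback A.π f
  wφ := rfl

end Obj

/-- Morphisms factor uniquely through morphisms over the same base morphism. -/
theorem exists_factor {A B C : QuotObj K G aX} (m : A ⟶ B) (g : C ⟶ B) (k : C.base ⟶ A.base)
    (h : k ≫ m.base = g.base) : ∃! l : C ⟶ A, l.base = k ∧ l ≫ m = g := by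
  let t : C.P ⟶ A.P := m.cart.lift g.top (C.π ≫ k) (by rw [Category.assoc, h, g.cart.w])
  have h1 : t ≫ m.top = g.top := m.cart.lift_fst _ _ _
  have h2 : t ≫ A.π = C.π ≫ k := m.cart.lift_snd _ _ _
  refine ⟨⟨k, t, ?_, IsPullback.of_right (by rw [h1, h]; exact g.cart) h2 m.cart, ?_⟩,
    ⟨rfl, QuotObj.hom_ext h h1⟩, ?_⟩
  · apply m.cart.hom_ext
    · rw [Category.assoc, h1, g.eqv, Category.assoc, m.eqv, ← whiskerLeft_comp_assoc, h1]
    · rw [Category.assoc, h2, Category.assoc, A.cart.w, whiskerLeft_snd_assoc, h2, ← Category.assoc,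
        C.cart.w, Category.assoc]
  · rw [← m.wφ, reassoc_of% h1, g.wφ]
  · rintro l ⟨hl, hlm⟩
    refine QuotObj.hom_ext hl (m.cart.hom_ext ?_ ?_)
    · rw [← QuotObj.comp_top, hlm, h1]
    · rw [l.cart.w, hl, h2]

theorem isHomLift_of_base {A B : QuotObj K G aX} (m : A ⟶ B) {f : A.base ⟶ B.base} (h : m.base = f) :
    (QuotSt K G aX).p.IsHomLift f m := h ▸ IsHomLift.map (QuotObj.forget K G aX) m

theorem base_of_isHomLift {A B : QuotObj K G aX} (m : A ⟶ B) {f : A.base ⟶ B.base}
    (h : (QuotSt K G aX).p.IsHomLift f m) : m.base = f :=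
  (IsHomLift.fac' (QuotSt K G aX).p f m).trans (by simp)

/-- The quotient category is fibred in groupoids. -/
theorem isFibGrpd [K.IsStableUnderBaseChange] : FibCat.IsFibGrpd (QuotSt K G aX).p where
  exists_lift {A V} f := ⟨Obj.pull A f, Obj.pullHom A f, isHomLift_of_base _ rfl⟩
  isStronglyCartesian {C A} m :=
    { toIsHomLift := IsHomLift.map _ _
      universal_property' := fun {B} k g hg => by
        have hb : g.base = k ≫ m.base := base_of_isHomLift g hg
        obtain ⟨l, ⟨h1, h2⟩, hu⟩ := exists_factor m g k hb.symm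
        exact ⟨l, ⟨isHomLift_of_base l h1, h2⟩, fun l' hl' => hu l' ⟨base_of_isHomLift l' hl'.1, hl'.2⟩⟩ }

/-- The trivial object attached to a point. -/
noncomputable abbrev trivObj (K : Precoverage Scheme.{u}) [K.HasIsos] (aX : AlgGrp.Action G X) {T : Over S}
    (x : T ⟶ X) : QuotObj K G aX :=
  (quotMap K G aX).obj ((AlgSt.ofOverCat X).obj (Over.mk x))

theorem lift_leftMul {T W : Over S} (g h : W ⟶ G) (t : W ⟶ T) :
    lift g (lift h t) ≫ (leftMul G T).act = lift (g * h) t := by
  simp [leftMul, comp_lift, MonObj.comp_mul]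

/-- The morphism from a trivial object given by a point of the torsor. -/
noncomputable def ofPoint {A : QuotObj K G aX} {T : Over S} (x : T ⟶ X) (f : T ⟶ A.base) (s : T ⟶ A.P)
    (hs : s ≫ A.π = f) (hx : s ≫ A.φ = x) : trivObj K aX x ⟶ A where
  base := f
  top := (G ◁ s) ≫ A.act.act
  eqv := by
    change (leftMul G T).act ≫ (G ◁ s) ≫ A.act.act = (G ◁ ((G ◁ s) ≫ A.act.act)) ≫ A.act.act
    rw [← Category.assoc]
    have e1 : (leftMul G T).act ≫ (G ◁ s) =
        lift (fst G (G ⊗ T) * (snd G (G ⊗ T) ≫ fst G T)) (snd G (G ⊗ T) ≫ snd G T ≫ s) := by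
      simp [leftMul, lift_whiskerLeft]
    rw [e1, Act.mul_smul]
    congr 1
    apply CartesianMonoidalCategory.hom_ext
    · simp
    · rw [lift_snd, whiskerLeft_snd, ← Category.assoc (snd G (G ⊗ T)) (G ◁ s)]
      congr 1
      apply CartesianMonoidalCategory.hom_ext <;> simp
  cart := by
    have h := (AlgSt.isPullback_whiskerLeft (G := G) s).paste_horiz A.cart
    rw [hs] at h
    exact h
  wφ := by
    change ((G ◁ s) ≫ A.act.act) ≫ A.φ = (G ◁ x) ≫ aX.act
    rw [Category.assoc, A.eqv, ← whiskerLeft_comp_assoc, hx]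

/-- The point of the torsor given by a morphism from a trivial object. -/
noncomputable def point {A : QuotObj K G aX} {T : Over S} {x : T ⟶ X} (m : trivObj K aX x ⟶ A) : T ⟶ A.P :=
  lift (1 : T ⟶ G) (𝟙 T) ≫ m.top

theorem point_π {A : QuotObj K G aX} {T : Over S} {x : T ⟶ X} (m : trivObj K aX x ⟶ A) :
    point m ≫ A.π = m.base := by
  rw [point, Category.assoc, m.cart.w]
  exact (Category.assoc _ _ _).symm.trans ((congrArg (· ≫ m.base) (lift_snd _ _)).trans (Category.id_comp _))

theorem point_φ {A : QuotObj K G aX} {T : Over S} {x : T ⟶ X} (m : trivObj K aX x ⟶ A) :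
    point m ≫ A.φ = x := by
  rw [point, Category.assoc, m.wφ]
  change lift _ _ ≫ (G ◁ x) ≫ aX.act = x
  rw [lift_whiskerLeft_assoc, Category.id_comp, Act.one_smul]

theorem lift_comp_top {A : QuotObj K G aX} {T W : Over S} {x : T ⟶ X} (m : trivObj K aX x ⟶ A)
    (g : W ⟶ G) (t : W ⟶ T) : lift g t ≫ m.top = lift g (t ≫ point m) ≫ A.act.act := by
  have e : lift g (lift 1 t) ≫ (leftMul G T).act = lift g t := by rw [lift_leftMul, _root_.mul_one]
  conv_lhs => rw [← e]
  rw [Category.assoc]
  erw [m.eqv]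
  rw [lift_whiskerLeft_assoc, point, ← Category.assoc t, comp_lift, MonObj.comp_one, Category.comp_id]

theorem top_eq {A : QuotObj K G aX} {T : Over S} {x : T ⟶ X} (m : trivObj K aX x ⟶ A) :
    m.top = (G ◁ point m) ≫ A.act.act := by
  refine (Category.id_comp _).symm.trans ?_
  change 𝟙 (G ⊗ T) ≫ _ = _
  rw [← lift_fst_snd, lift_comp_top]
  congr 1

theorem hom_ext_of_point {A : QuotObj K G aX} {T : Over S} {x : T ⟶ X} {m m' : trivObj K aX x ⟶ A}
    (h : point m = point m') : m = m' :=
  QuotObj.hom_ext (by rw [← point_π m, ← point_π m', h]) (by rw [top_eq m, top_eq m', h])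

theorem point_ofPoint {A : QuotObj K G aX} {T : Over S} (x : T ⟶ X) (f : T ⟶ A.base) (s : T ⟶ A.P)
    (hs : s ≫ A.π = f) (hx : s ≫ A.φ = x) : point (ofPoint x f s hs hx) = s := by
  change lift _ _ ≫ (G ◁ s) ≫ A.act.act = s
  rw [lift_whiskerLeft_assoc, Category.id_comp, Act.one_smul]

/-- Every object is locally trivial. -/
theorem exists_trivialisation (A : QuotObj K G aX) :
    ∃ (R : Presieve A.base.left) (_ : R ∈ K A.base.left),
      ∀ ⦃T' : Scheme.{u}⦄ (f : T' ⟶ A.base.left), R f →
        ∃ (x : Over.mk (f ≫ A.base.hom) ⟶ X) (h : trivObj K aX x ⟶ A), h.base = Over.homMk f rfl := by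
  obtain ⟨R, hR, hs⟩ := A.loc
  refine ⟨R, hR, fun T' f hf => ?_⟩
  obtain ⟨s, hs'⟩ := hs f hf
  have hs'' : s ≫ A.π.left = f := hs'
  let s' : Over.mk (f ≫ A.base.hom) ⟶ A.P := Over.homMk s (by
    rw [← Over.w A.π, ← Category.assoc, hs'']; rfl)
  exact ⟨s' ≫ A.φ, ofPoint _ (Over.homMk f rfl) s' (Over.OverMorphism.ext hs'') rfl, rfl⟩

end Groth.Agent.Lib.QuotSt
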