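import Groth.Agent.Lib.QuotSt.Invariant
import Groth.Agent.Lib.QuotSt.ActionSquare
import Groth.Prelude.Def_StCoarse
import Groth.Prelude.Def_W4bk4git07Quot

/-!
# Categorical moduli spaces of `[X/G]` and categorical quotients
-/

set_option autoImplicit false
set_option backward.isDefEq.respectTransparency false
set_option backward.isDefEq.respectTransparency.types false

universe u

open CategoryTheory CategoryTheory.Limits MonoidalCategory CartesianMonoidalCategory MonObj GrpObj AlgebraicGeometry Opposite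

namespace Groth.Agent.Lib.QuotSt

open AlgSt (QuotObj QuotSt quotMap ofSp ofSpMap)
open AlgSp (Sp yon)

variable {S : Scheme.{u}}

/-- 2-isomorphic functors to a sheaf are equal. -/
theorem functor_eq_of_iso {F : Sp S} {𝒳 : AlgSt.Cat S} {Φ Ψ : 𝒳 ⥤ᵇ ofSp F} (e : Φ ≅ Ψ) : Φ = Ψ := by
  refine functor_ext fun a => ?_
  refine (eq_mk_res _ (Φ.w_obj a)).trans (Eq.trans (congrArg (Stk.EltObj.mk (P := F.obj) (𝒳.p.obj a)) ?_)
    (eq_mk_res _ (Ψ.w_obj a)).symm)
  let i := (AlgStack.BasedBasic.appIso e a).hom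
  have hi : (ofSp F).p.IsHomLift (𝟙 (𝒳.p.obj a)) i := AlgStack.BasedBasic.appIso_isHomLift e a
  refine Eq.trans ?_ ((map_res i (Φ.w_obj a) (Ψ.w_obj a) (𝟙 _)
    (IsHomLift.fac' (ofSp F).p (𝟙 (𝒳.p.obj a)) i)).symm.trans ?_)
  · rfl
  · simp

theorem map_eq_of_ofSpMap {A F : Sp S} {a b : A ⟶ F} (h : ofSpMap a = ofSpMap b) : a = b := by
  refine ObjectProperty.hom_ext _ ?_
  ext T x
  have key : ∀ {s t : F.obj.obj (op T.unop)},
      (⟨T.unop, s⟩ : Stk.EltObj F.obj) = ⟨T.unop, t⟩ → s = t := fun {s t} e => by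
    cases e; rfl
  exact key (congrArg (fun k => k.toFunctor.obj ⟨T.unop, x⟩) h)

variable {K : Precoverage Scheme.{u}} [K.HasIsos] [K.IsStableUnderBaseChange]
  {G X : Over S} [GrpObj G] {aX : AlgGrp.Action G X}

/-- A map through `[X/G]` is invariant. -/
theorem invariant_of_factor {F : Sp S} {ψ : (yon S).obj X ⟶ F} (Φ : QuotSt K G aX ⥤ᵇ ofSp F)
    (h : BasedFunctor.comp (quotMap K G aX) Φ = ofSpMap ψ) :
    (yon S).map aX.act ≫ ψ = (yon S).map (snd G X) ≫ ψ := by
  refine map_eq_of_ofSpMap ?_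
  have e := functor_eq_of_iso (AlgStack.BasedBasic.isoWhiskerRight (squareIso (K := K) aX) Φ)
  have e1 : ∀ {Z : Over S} (m : Z ⟶ X),
      BasedFunctor.comp (BasedFunctor.comp (ofSpMap ((yon S).map m)) (quotMap K G aX)) Φ =
        ofSpMap ((yon S).map m ≫ ψ) := fun m => by
    change BasedFunctor.comp (ofSpMap ((yon S).map m)) (BasedFunctor.comp (quotMap K G aX) Φ) = _
    rw [h]
    rfl
  rw [e1, e1] at e
  exact e

variable (hK : K ≤ Scheme.fppfPrecoverage)
include hK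

theorem isCatModuliSch_iff {Y : Over S} (f : X ⟶ Y) (π : QuotSt K G aX ⥤ᵇ AlgSt.ofSch Y)
    (hπ : Nonempty (BasedFunctor.comp (quotMap K G aX) π ≅ ofSpMap ((yon S).map f))) :
    AlgSt.IsCatModuliSch π ↔ GIT.IsCatQuot aX f := by
  obtain ⟨e⟩ := hπ
  have hπ' := functor_eq_of_iso e
  have hinv : GIT.IsInvariant aX f := (yon S).map_injective (by
    rw [Functor.map_comp, Functor.map_comp]; exact invariant_of_factor π hπ')
  -- factoring `ψ` through `π` amounts to factoring it through `f`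
  have key : ∀ {N : Sp S} (g : (yon S).obj Y ⟶ N) {Φ : QuotSt K G aX ⥤ᵇ ofSp N} {ψ : (yon S).obj X ⟶ N},
      BasedFunctor.comp (quotMap K G aX) Φ = ofSpMap ψ →
      (Nonempty (BasedFunctor.comp π (ofSpMap g) ≅ Φ) ↔ (yon S).map f ≫ g = ψ) := by
    intro N g Φ ψ hΦ
    have h1 : BasedFunctor.comp (quotMap K G aX) (BasedFunctor.comp π (ofSpMap g)) = ofSpMap ((yon S).map f ≫ g) := by
      change BasedFunctor.comp (BasedFunctor.comp (quotMap K G aX) π) (ofSpMap g) = _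
      rw [hπ']
      rfl
    constructor
    · rintro ⟨i⟩
      exact map_eq_of_ofSpMap (h1.symm.trans ((congrArg (BasedFunctor.comp _) (functor_eq_of_iso i)).trans hΦ))
    · intro hg
      exact ⟨eqToIso ((existsUnique_factor ψ hK (invariant_of_factor Φ hΦ)).unique (by rw [← hg]; exact h1) hΦ)⟩
  constructor
  · rintro ⟨-, hu⟩
    refine ⟨hinv, fun Z ψ hψ => ?_⟩
    obtain ⟨Φ, hΦ, -⟩ := existsUnique_factor ((yon S).map ψ) hK (aX := aX) (by
      rw [← Functor.map_comp, ← Functor.map_comp, hψ])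
    obtain ⟨g, hg, hgu⟩ := hu ((yon S).obj Z) ⟨⟨Z, ⟨AlgSp.representableByOfIso (Iso.refl _)⟩⟩⟩ Φ
    obtain ⟨χ, rfl⟩ := (yon S).map_surjective g
    refine ⟨χ, (yon S).map_injective (by rw [Functor.map_comp]; exact (key _ hΦ).1 hg), fun χ' h' => ?_⟩
    exact (yon S).map_injective (hgu _ ((key _ hΦ).2 (by rw [← Functor.map_comp, h'])))
  · rintro ⟨-, hu⟩
    refine ⟨⟨⟨Y, ⟨AlgSp.representableByOfIso (Iso.refl _)⟩⟩⟩, fun N hN Φ => ?_⟩
    obtain ⟨Z, ⟨r⟩⟩ := hN.has_representation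
    let i := AlgSp.isoOfRepresentableBy r
    let ψ' : (yon S).obj X ⟶ N := AlgStack.Space.spHom (BasedFunctor.comp (quotMap K G aX) Φ)
    have hΦ : BasedFunctor.comp (quotMap K G aX) Φ = ofSpMap ψ' :=
      functor_eq_of_iso (AlgStack.OfPsh.isoOfPshMap (BasedFunctor.comp (quotMap K G aX) Φ))
    obtain ⟨ψ, hψ⟩ := (yon S).map_surjective (ψ' ≫ i.inv)
    obtain ⟨χ, hχ, hχu⟩ := hu Z ψ ((yon S).map_injective (by
      rw [Functor.map_comp, Functor.map_comp, hψ, ← Category.assoc, ← Category.assoc, invariant_of_factor Φ hΦ]))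
    refine ⟨(yon S).map χ ≫ i.hom, (key _ hΦ).2 (by rw [← Functor.map_comp_assoc, hχ, hψ, Category.assoc, i.inv_hom_id, Category.comp_id]), fun g hg => ?_⟩
    obtain ⟨χ', hχ'⟩ := (yon S).map_surjective (g ≫ i.inv)
    have : χ' = χ := hχu χ' ((yon S).map_injective (by
      rw [Functor.map_comp, hχ', hψ, ← Category.assoc, (key g hΦ).1 hg]))
    rw [← this, hχ', Category.assoc, i.inv_hom_id, Category.comp_id]

end Groth.Agent.Lib.QuotSt
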