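import Groth.Agent.Lib.QuotSt.Basic
import Groth.Agent.Lib.TorsorSch.Descent
import Groth.Agent.Lib.AlgSpace.Local

/-!
# Gluing morphisms into schemes, and descent of properties to torsors
-/

set_option autoImplicit false
set_option backward.isDefEq.respectTransparency false
set_option backward.isDefEq.respectTransparency.types false

universe u

open CategoryTheory CategoryTheory.Limits MonoidalCategory CartesianMonoidalCategory MonObj GrpObj AlgebraicGeometry Opposite

namespace Groth.Agent.Lib.QuotSt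

open AlgSt (QuotObj QuotSt)
open Fibred.Descent (Sep GlueHom Fam)

variable {S : Scheme.{u}}

/-- Morphisms into a scheme over `S` glue along covering sieves of a subcanonical topology. -/
theorem exists_glue {J : GrothendieckTopology (Over S)} [J.Subcanonical] {T W : Over S} {R : Sieve T}
    (hR : R ∈ J T)
    (c : ∀ ⦃V : Over S⦄ (f : V ⟶ T), R f → (V ⟶ W))
    (hc : ∀ ⦃V V' : Over S⦄ (g : V' ⟶ V) (f : V ⟶ T) (hf : R f),
      g ≫ c f hf = c (g ≫ f) (R.downward_closed hf g)) :
    ∃! h : T ⟶ W, ∀ ⦃V : Over S⦄ (f : V ⟶ T) (hf : R f), f ≫ h = c f hf := by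
  have hs := GrothendieckTopology.Subcanonical.isSheaf_of_isRepresentable (J := J) (yoneda.obj W)
  obtain ⟨h, h1, h2⟩ := hs R hR (fun V f hf => c f hf) ((Presieve.compatible_iff_sieveCompatible _).2 fun V' V f g hf => (hc g f hf).symm)
  exact ⟨h, fun V f hf => h1 f hf, fun h' hh' => h2 h' fun V f hf => hh' f hf⟩

theorem hom_ext_of_sieve {J : GrothendieckTopology (Over S)} [J.Subcanonical] {T W : Over S}
    {R : Sieve T} (hR : R ∈ J T) {h h' : T ⟶ W}
    (e : ∀ ⦃V : Over S⦄ (f : V ⟶ T), R f → f ≫ h = f ≫ h') : h = h' :=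
  (exists_glue hR (fun _ f _ => f ≫ h) fun _ _ g f _ => (Category.assoc g f h).symm).unique
    (fun _ f _ => rfl) fun _ f hf => (e f hf).symm

variable {K : Precoverage Scheme.{u}} [K.HasIsos] [K.IsStableUnderBaseChange] {G X : Over S} [GrpObj G]
  {aX : AlgGrp.Action G X}

/-- The action on a base change, composed with the projection. -/
theorem lift_eqv {A B : QuotObj K G aX} (m : A ⟶ B) {W : Over S} (g : W ⟶ G) (p : W ⟶ A.P) :
    (lift g p ≫ A.act.act) ≫ m.top = lift g (p ≫ m.top) ≫ B.act.act := by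
  rw [Category.assoc, m.eqv, lift_whiskerLeft_assoc]

omit [K.HasIsos] [K.IsStableUnderBaseChange] in
theorem lift_act_π (A : QuotObj K G aX) {W : Over S} (g : W ⟶ G) (p : W ⟶ A.P) :
    (lift g p ≫ A.act.act) ≫ A.π = p ≫ A.π := by
  rw [Category.assoc, A.cart.w, lift_snd_assoc]

omit [K.HasIsos] [K.IsStableUnderBaseChange] in
theorem lift_act_φ (A : QuotObj K G aX) {W : Over S} (g : W ⟶ G) (p : W ⟶ A.P) :
    (lift g p ≫ A.act.act) ≫ A.φ = lift g (p ≫ A.φ) ≫ aX.act := by
  rw [Category.assoc, A.eqv, lift_whiskerLeft_assoc]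

section Hom

variable {U : Over S} {R : Sieve U}

/-- Vertical morphisms are determined locally. -/
theorem sep {J : GrothendieckTopology (Over S)} [J.Subcanonical] (hR : R ∈ J U) : Sep R (QuotSt K G aX) := by
  intro A B a b ha hb h
  obtain rfl : A.base = U := IsHomLift.domain_eq (QuotSt K G aX).p (𝟙 U) a
  obtain hBU : B.base = A.base := IsHomLift.codomain_eq (QuotSt K G aX).p (𝟙 A.base) a
  have hab : a.base = b.base := by
    have e1 := IsHomLift.fac' (QuotSt K G aX).p (𝟙 A.base) a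
    have e2 := IsHomLift.fac' (QuotSt K G aX).p (𝟙 A.base) b
    exact e1.trans e2.symm
  refine QuotObj.hom_ext hab (hom_ext_of_sieve (J.pullback_stable A.π hR) fun V v hv => ?_)
  have e := congrArg (fun m => QuotObj.Hom.top m) (h (v ≫ A.π) hv (Obj.pullHom A (v ≫ A.π))
    (isHomLift_of_base _ rfl))
  simp only [QuotObj.comp_top] at e
  have h1 : pullback.lift v (𝟙 V) (Category.id_comp _).symm ≫ (Obj.pullHom A (v ≫ A.π)).top = v :=
    pullback.lift_fst _ _ _
  rw [← h1, Category.assoc, Category.assoc]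
  exact congrArg _ e

/-- Compatible families of morphisms glue. -/
theorem glueHom {J : GrothendieckTopology (Over S)} [J.Subcanonical] (hR : R ∈ J U) : GlueHom R (QuotSt K G aX) := by
  intro A B hA hB c hc
  change A.base = U at hA
  change B.base = U at hB
  subst hA
  let θ := fun ⦃W : Over S⦄ (f : W ⟶ A.base) (hf : R f) => c f hf (Obj.pullHom A f) (isHomLift_of_base _ rfl)
  have θ_base : ∀ ⦃W : Over S⦄ (f : W ⟶ A.base) (hf : R f), (θ f hf).base = f ≫ eqToHom hB.symm := fun W f hf => by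
    have := hc.lifts f hf (Obj.pullHom A f) (isHomLift_of_base _ rfl)
    have e := IsHomLift.fac' (QuotSt K G aX).p f (θ f hf)
    exact e.trans (Category.id_comp _)
  -- naturality of the family in the base
  have θ_nat : ∀ ⦃W W' : Over S⦄ (g : W' ⟶ W) (f : W ⟶ A.base) (hf : R f)
      (ρ : Obj.pull A (g ≫ f) ⟶ Obj.pull A f), ρ.base = g → ρ ≫ Obj.pullHom A f = Obj.pullHom A (g ≫ f) →
      θ (g ≫ f) (R.downward_closed hf g) = ρ ≫ θ f hf := by
    intro W W' g f hf ρ hρ e
    have hl : (QuotSt K G aX).p.IsHomLift (g ≫ f) (ρ ≫ Obj.pullHom A f) := by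
      rw [e]; exact isHomLift_of_base _ rfl
    have := hc.comp f hf (Obj.pullHom A f) (isHomLift_of_base _ rfl) g ρ (isHomLift_of_base ρ hρ) hl
    rw [← this]
    exact Fam.Compatible.congr (c := c) rfl _ _ e.symm _ _
  let sec := fun ⦃V : Over S⦄ (v : V ⟶ A.P) => (pullback.lift v (𝟙 V) (Category.id_comp _).symm :
    V ⟶ pullback A.π (v ≫ A.π))
  have hsec : ∀ ⦃V : Over S⦄ (v : V ⟶ A.P), sec v ≫ (Obj.pullHom A (v ≫ A.π)).top = v :=
    fun V v => pullback.lift_fst _ _ _
  have key : ∀ ⦃V : Over S⦄ (v : V ⟶ A.P) ⦃W : Over S⦄ (f : W ⟶ A.base) (hf : R f) (k : V ⟶ W)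
      (hk : k ≫ f = v ≫ A.π) (t : V ⟶ (Obj.pull A f).P), t ≫ (Obj.pullHom A f).top = v → t ≫ (Obj.pull A f).π = k →
      sec v ≫ (θ (v ≫ A.π) (hk ▸ R.downward_closed hf k)).top = t ≫ (θ f hf).top := by
    intro V v W f hf k hk t ht ht'
    obtain ⟨ρ, ⟨hρ, e⟩, -⟩ := exists_factor (Obj.pullHom A f) (Obj.pullHom A (k ≫ f)) k rfl
    have e2 := θ_nat k f hf ρ hρ e
    have : ∀ (g : V ⟶ A.base) (hg : g = k ≫ f) (hg' : R g) (s : V ⟶ pullback A.π g),
        s ≫ pullback.fst A.π g = v → s ≫ pullback.snd A.π g = 𝟙 V → s ≫ (θ g hg').top = t ≫ (θ f hf).top := by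
      intro g hg hg' s hs hs'
      subst hg
      rw [e2, QuotObj.comp_top, ← Category.assoc]
      congr 1
      apply pullback.hom_ext
      · have := congrArg (fun m => s ≫ QuotObj.Hom.top m) e
        simp only [QuotObj.comp_top] at this
        rw [Category.assoc]
        exact this.trans (hs.trans ht.symm)
      · rw [Category.assoc]
        refine (congrArg (s ≫ ·) ρ.cart.w).trans ?_
        rw [hρ, ← Category.assoc]
        exact ((congrArg (· ≫ k) hs').trans (Category.id_comp _)).trans ht'.symm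
    exact this _ hk.symm _ _ (pullback.lift_fst _ _ _) (pullback.lift_snd _ _ _)
  obtain ⟨top, htop, -⟩ := exists_glue (J.pullback_stable A.π hR)
    (fun V v hv => sec v ≫ (θ (v ≫ A.π) hv).top) fun V V' g v hv => by
      refine ((key (g ≫ v) (v ≫ A.π) hv g (by simp) (g ≫ sec v) ?_ ?_).trans (Category.assoc _ _ _)).symm
      · rw [Category.assoc, hsec]
      · rw [Category.assoc]; exact (congrArg (g ≫ ·) (pullback.lift_snd _ _ _)).trans (Category.comp_id _)
  have htop' : ∀ ⦃W : Over S⦄ (f : W ⟶ A.base) (hf : R f),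
      (Obj.pullHom A f).top ≫ top = (θ f hf).top := by
    intro W f hf
    refine hom_ext_of_sieve (J.top_mem _) fun V t _ => ?_
    have hk : (t ≫ (Obj.pull A f).π) ≫ f = (t ≫ (Obj.pullHom A f).top) ≫ A.π := by
      rw [Category.assoc, Category.assoc, (Obj.pullHom A f).cart.w]; rfl
    have hv : R ((t ≫ (Obj.pullHom A f).top) ≫ A.π) := hk ▸ R.downward_closed hf _
    rw [← Category.assoc, htop _ hv]
    exact key _ f hf _ hk t rfl rfl
  have hπ : top ≫ B.π = A.π ≫ eqToHom hB.symm := hom_ext_of_sieve (J.pullback_stable A.π hR) fun V v hv => by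
    rw [reassoc_of% (htop v hv), (θ _ hv).cart.w, θ_base, ← Category.assoc (sec v)]
    erw [pullback.lift_snd]
    rw [Category.id_comp, Category.assoc]
  have heqv : A.act.act ≫ top = (G ◁ top) ≫ B.act.act := by
    refine hom_ext_of_sieve (J.pullback_stable (snd G A.P ≫ A.π) hR) fun V v hv => ?_
    have hv' : R ((v ≫ snd G A.P) ≫ A.π) := by rwa [Category.assoc]
    let f := (v ≫ snd G A.P) ≫ A.π
    have e : v = lift (v ≫ fst G A.P) (sec (v ≫ snd G A.P) ≫ (Obj.pullHom A f).top) := by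
      rw [hsec]; apply CartesianMonoidalCategory.hom_ext <;> simp
    have e1 := lift_eqv (Obj.pullHom A f) (v ≫ fst G A.P) (sec (v ≫ snd G A.P))
    have e2 := lift_eqv (θ f hv') (v ≫ fst G A.P) (sec (v ≫ snd G A.P))
    rw [e, lift_whiskerLeft_assoc, Category.assoc (sec _), htop' f hv']
    refine ((Category.assoc _ _ _).symm.trans (congrArg (· ≫ top) e1.symm)).trans ?_
    exact ((Category.assoc _ _ _).trans (congrArg (_ ≫ ·) (htop' f hv'))).trans e2
  have hφ : top ≫ B.φ = A.φ := hom_ext_of_sieve (J.pullback_stable A.π hR) fun V v hv => by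
    rw [reassoc_of% (htop v hv), (θ _ hv).wφ]
    change sec v ≫ pullback.fst _ _ ≫ A.φ = v ≫ A.φ
    rw [← Category.assoc, pullback.lift_fst]
  -- the inverse of the glued map
  have hinv : ∀ ⦃V : Over S⦄ (f : V ⟶ A.base) (hf : R f) (w : V ⟶ B.P), w ≫ B.π = f ≫ eqToHom hB.symm →
      ∃! p : V ⟶ A.P, p ≫ A.π = f ∧ p ≫ top = w := by
    intro V f hf w hw
    let q := (θ f hf).cart.lift w (𝟙 V) (by rw [hw, θ_base, Category.id_comp])
    have hq1 : q ≫ (θ f hf).top = w := (θ f hf).cart.lift_fst _ _ _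
    have hq2 : q ≫ (Obj.pull A f).π = 𝟙 V := (θ f hf).cart.lift_snd _ _ _
    refine ⟨q ≫ (Obj.pullHom A f).top, ⟨?_, ?_⟩, ?_⟩
    · rw [Category.assoc, (Obj.pullHom A f).cart.w, ← Category.assoc, hq2]
      exact Category.id_comp _
    · rw [Category.assoc, htop' f hf, hq1]
    · rintro p ⟨hp1, hp2⟩
      have : (Obj.pullHom A f).cart.lift p (𝟙 V) (by rw [hp1]; exact (Category.id_comp _).symm) = q :=
        (θ f hf).cart.hom_ext (by rw [← htop' f hf, IsPullback.lift_fst_assoc, hp2, htop' f hf, hq1])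
          (by rw [IsPullback.lift_snd, hq2])
      rw [← this, IsPullback.lift_fst]
  have hiso : IsIso top := by
    obtain ⟨j, hj, -⟩ := exists_glue (J.pullback_stable (B.π ≫ eqToHom hB) hR)
      (fun V w hw => (hinv (w ≫ B.π ≫ eqToHom hB) hw w (by simp)).choose) fun V V' g w hw => by
        refine (hinv ((g ≫ w) ≫ B.π ≫ eqToHom hB)
          (by simpa using R.downward_closed hw g) (g ≫ w) (by simp)).choose_spec.2 _ ⟨?_, ?_⟩
        · rw [Category.assoc, (hinv _ hw w (by simp)).choose_spec.1.1]; simp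
        · rw [Category.assoc, (hinv _ hw w (by simp)).choose_spec.1.2]
    refine ⟨j, hom_ext_of_sieve (J.pullback_stable A.π hR) fun V v hv => ?_,
      hom_ext_of_sieve (J.pullback_stable (B.π ≫ eqToHom hB) hR) fun V w hw => ?_⟩
    · have e : v ≫ A.π = (v ≫ top) ≫ B.π ≫ eqToHom hB := by rw [Category.assoc, reassoc_of% hπ]; simp
      have hv' : R ((v ≫ top) ≫ B.π ≫ eqToHom hB) := e ▸ hv
      rw [Category.comp_id, ← Category.assoc, hj _ hv']
      exact ((hinv _ hv' (v ≫ top) (by simp)).choose_spec.2 v ⟨e, rfl⟩).symm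
    · rw [Category.comp_id, ← Category.assoc, hj _ hw]
      exact (hinv _ hw w (by simp)).choose_spec.1.2
  let m : A ⟶ B := ⟨eqToHom hB.symm, top, heqv, IsPullback.of_horiz_isIso ⟨hπ⟩, hφ⟩
  refine ⟨m, IsHomLift.of_fac' _ _ _ rfl hB (show eqToHom hB.symm = _ by simp), fun V f hf z ψ hψ => ?_⟩
  obtain rfl : z.base = V := IsHomLift.domain_eq (QuotSt K G aX).p f ψ
  have hb : ψ.base = f := base_of_isHomLift ψ hψ
  obtain ⟨ρ, ⟨hρ, e⟩, -⟩ := exists_factor (Obj.pullHom A f) ψ (𝟙 z.base) ((Category.id_comp _).trans hb.symm)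
  have hρ' : (QuotSt K G aX).p.IsHomLift (𝟙 z.base) ρ := isHomLift_of_base ρ hρ
  have hl : (QuotSt K G aX).p.IsHomLift (𝟙 z.base ≫ f) (ρ ≫ Obj.pullHom A f) := by
    rw [Category.id_comp, e]; exact hψ
  have := hc.comp f hf (Obj.pullHom A f) (isHomLift_of_base _ rfl) (𝟙 z.base) ρ hρ' hl
  rw [Fam.Compatible.congr (c := c) (Category.id_comp f) _ hf e _ hψ] at this
  rw [this]
  refine QuotObj.hom_ext ?_ ?_
  · change ψ.base ≫ eqToHom hB.symm = ρ.base ≫ (θ f hf).base
    rw [θ_base, hρ, hb, Category.id_comp]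
  · change ψ.top ≫ top = ρ.top ≫ (θ f hf).top
    rw [← htop' f hf, ← Category.assoc, ← QuotObj.comp_top, e]

end Hom

/-- A property stable under base change and fpqc local on the target passes from the group to the
torsor of an object. -/
theorem property_π {P : MorphismProperty Scheme.{u}} [IsZariskiLocalAtTarget P]
    [P.IsStableUnderBaseChange] [P.DescendsAlong (@Surjective ⊓ @Flat ⊓ @QuasiCompact)]
    (hK : K ≤ Scheme.fpqcPrecoverage) (A : QuotObj K G aX) (hG : P G.hom) : P A.π.left := by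
  obtain ⟨R, hR, hs⟩ := A.loc
  let Z : Over A.base.left := Over.mk A.π.left
  let f : Z ⟶ 𝟙_ (Over A.base.left) := toUnit Z
  have key : P f.left := TorsorSch.Descent.of_presieve (P := P) (hK _ hR) f fun T' g hg => by
    obtain ⟨s, hs'⟩ := hs g hg
    have hs'' : s ≫ A.π.left = g := hs'
    let T : Over S := Over.mk (g ≫ A.base.hom)
    let s' : T ⟶ A.P := Over.homMk s (by rw [← Over.w A.π, ← Category.assoc, hs'']; rfl)
    let h := ofPoint (A := A) (s' ≫ A.φ) (Over.homMk g rfl) s' (Over.OverMorphism.ext hs'') rfl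
    have sq1 : IsPullback h.top.left (snd G T).left A.π.left g := h.cart.map (Over.forget S)
    have sq2 := GrpSch.isPullback_left Z (Over.mk g)
    have hsnd : P (snd Z (Over.mk g)).left := by
      rw [← sq1.isoIsPullback_inv_snd _ _ sq2, P.cancel_left_of_respectsIso]
      exact GrpSch.snd_left_of T hG
    have e : (f ▷ Over.mk g) ≫ snd (𝟙_ (Over A.base.left)) (Over.mk g) = snd Z (Over.mk g) :=
      whiskerRight_snd _ _
    have hi : IsIso (snd (𝟙_ (Over A.base.left)) (Over.mk g)) := by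
      rw [← leftUnitor_hom]; infer_instance
    have : IsIso (snd (𝟙_ (Over A.base.left)) (Over.mk g)).left :=
      inferInstanceAs (IsIso ((Over.forget A.base.left).map (snd (𝟙_ (Over A.base.left)) (Over.mk g))))
    rw [← P.cancel_right_of_respectsIso _ (snd (𝟙_ (Over A.base.left)) (Over.mk g)).left, ← Over.comp_left, e]
    exact hsnd
  simpa [f, Z] using key

end Groth.Agent.Lib.QuotSt
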