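import Groth.Agent.Lib.QuotSt.Atlas
import Groth.Agent.H1.LangTorsor
import Groth.Agent.Lib.Zeta.Points
import Mathlib.GroupTheory.GroupAction.Quotient

/-!
# Mass of the groupoid of rational points of `[X/G]`
-/

set_option autoImplicit false
set_option linter.style.haveILetI false
set_option backward.isDefEq.respectTransparency false
set_option backward.isDefEq.respectTransparency.types false

universe u

open CategoryTheory CategoryTheory.Limits MonoidalCategory CartesianMonoidalCategory AlgebraicGeometry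
open scoped MonObj

namespace Groth.Agent.Lib.QuotSt.PointCount

open AlgSt (QuotObj QuotSt)

/-- The mass of a category equivalent to an action groupoid. -/
theorem mass_of_action {C : Type*} [Category C] {Γ V : Type*} [Group Γ] [MulAction Γ V] [Finite Γ]
    [Finite V] (f : V → C) (hsurj : ∀ c, ∃ v, Nonempty (c ≅ f v))
    (hiso : ∀ {c d : C} (m : c ⟶ d), IsIso m)
    (hhom : ∀ v w, Nonempty ((f v ⟶ f w) ≃ {g : Γ // g • w = v})) :
    Finite (Quotient (isIsomorphicSetoid C)) ∧ (∀ c : C, Finite (Aut c)) ∧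
      ∑ᶠ q : Quotient (isIsomorphicSetoid C), ((Nat.card (Aut q.out) : ℚ))⁻¹ =
        (Nat.card V : ℚ) / (Nat.card Γ : ℚ) := by
  let π : V → Quotient (isIsomorphicSetoid C) := fun v => Quotient.mk _ (f v)
  have hπ : Function.Surjective π := fun q => by
    induction q using Quotient.inductionOn with
    | h c =>
      obtain ⟨v, ⟨e⟩⟩ := hsurj c
      exact ⟨v, Quotient.sound (⟨e.symm⟩ : IsIsomorphic (f v) c)⟩
  have hfin : Finite (Quotient (isIsomorphicSetoid C)) := Finite.of_surjective π hπ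
  let eA : ∀ c : C, Aut c ≃ (c ⟶ c) := fun c =>
    { toFun := fun e => e.hom
      invFun := fun m => @asIso _ _ _ _ m (hiso m)
      left_inv := fun e => Iso.ext rfl
      right_inv := fun m => rfl }
  have hAut : ∀ (c : C) (v : V) (e : c ≅ f v),
      Finite (Aut c) ∧ Nat.card (Aut c) = Nat.card (MulAction.stabilizer Γ v) := fun c v e => by
    obtain ⟨h⟩ := hhom v v
    let a : Aut c ≃ MulAction.stabilizer Γ v :=
      (eA c).trans ((Iso.homCongr e e).trans (h.trans (Equiv.subtypeEquivRight fun g =>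
        MulAction.mem_stabilizer_iff.symm)))
    exact ⟨Finite.of_equiv _ a.symm, Nat.card_congr a⟩
  refine ⟨hfin, fun c => by obtain ⟨v, ⟨e⟩⟩ := hsurj c; exact (hAut c v e).1, ?_⟩
  classical
  have := Fintype.ofFinite (Quotient (isIsomorphicSetoid C))
  have := Fintype.ofFinite V
  have hΓ : (Nat.card Γ : ℚ) ≠ 0 := Nat.cast_ne_zero.2 Nat.card_pos.ne'
  rw [finsum_eq_sum_of_fintype, eq_div_iff hΓ, Finset.sum_mul]
  have hVsum : (Nat.card V : ℚ) = ∑ q, (Nat.card {v // π v = q} : ℚ) := by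
    rw [← Nat.cast_sum, ← Nat.card_sigma]
    exact congrArg Nat.cast (Nat.card_congr (Equiv.sigmaFiberEquiv π).symm)
  rw [hVsum]
  refine Finset.sum_congr rfl fun q _ => ?_
  obtain ⟨v, hv⟩ := hπ q
  have hout : IsIsomorphic (f v) q.out := Quotient.exact (s := isIsomorphicSetoid C) (hv.trans q.out_eq.symm)
  obtain ⟨e⟩ := hout
  rw [(hAut q.out v e.symm).2]
  have horb : {w // π w = q} ≃ MulAction.orbit Γ v := Equiv.subtypeEquivRight fun w => by
    rw [← hv]
    constructor
    · intro h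
      obtain ⟨i⟩ := (Quotient.exact (s := isIsomorphicSetoid C) h : IsIsomorphic (f w) (f v))
      obtain ⟨k⟩ := hhom w v
      exact ⟨(k i.hom).1, (k i.hom).2⟩
    · rintro ⟨g, rfl⟩
      obtain ⟨k⟩ := hhom (g • v) v
      exact Quotient.sound (⟨@asIso _ _ _ _ (k.symm ⟨g, rfl⟩) (hiso _)⟩ : IsIsomorphic (f (g • v)) (f v))
  rw [Nat.card_congr horb]
  have hos : Nat.card Γ = Nat.card (MulAction.orbit Γ v) * Nat.card (MulAction.stabilizer Γ v) := by
    rw [← Nat.card_prod]
    exact (Nat.card_congr (MulAction.orbitProdStabilizerEquivGroup Γ v)).symm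
  rw [hos, Nat.cast_mul, mul_comm (Nat.card (MulAction.orbit Γ v) : ℚ), ← mul_assoc,
    inv_mul_cancel₀ (Nat.cast_ne_zero.2 Nat.card_pos.ne'), one_mul]

variable {S : Scheme.{u}} {G X : Over S} [GrpObj G]

/-- The action on `T`-points. -/
@[reducible] noncomputable def pointsAction (aX : AlgGrp.Action G X) (T : Over S) :
    MulAction (T ⟶ G) (T ⟶ X) where
  smul g x := lift g x ≫ aX.act
  one_smul x := Act.one_smul aX x
  mul_smul g h x := Act.mul_smul aX g h x

variable {K : Precoverage Scheme.{u}} [K.HasIsos] [K.IsStableUnderBaseChange] {aX : AlgGrp.Action G X}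
  {T : Over S}

/-- Vertical morphisms between trivial objects. -/
noncomputable def homEquiv (x x' : T ⟶ X) :
    {m : trivObj K aX x ⟶ trivObj K aX x' // m.base = 𝟙 T} ≃
      {g : T ⟶ G // lift g x' ≫ aX.act = x} where
  toFun m := ⟨point m.1 ≫ fst G T, by
    have h1 : point m.1 ≫ snd G T = 𝟙 T := (point_π m.1).trans m.2
    have h2 : point m.1 ≫ (G ◁ x') ≫ aX.act = x := point_φ m.1
    have h3 : point m.1 = lift (point m.1 ≫ fst G T) (𝟙 T) := by
      apply CartesianMonoidalCategory.hom_ext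
      · exact (lift_fst _ _).symm
      · exact h1.trans (lift_snd _ _).symm
    rw [h3, lift_whiskerLeft_assoc, Category.id_comp] at h2
    exact h2⟩
  invFun g := ⟨ofPoint (A := trivObj K aX x') x (𝟙 T) (lift g.1 (𝟙 T)) (lift_snd _ _) (by
    change lift g.1 (𝟙 T) ≫ (G ◁ x') ≫ aX.act = x
    rw [lift_whiskerLeft_assoc, Category.id_comp]
    exact g.2), rfl⟩
  left_inv m := by
    refine Subtype.ext (hom_ext_of_point ?_)
    rw [point_ofPoint]
    apply CartesianMonoidalCategory.hom_ext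
    · exact lift_fst _ _
    · exact (lift_snd _ _).trans ((point_π m.1).trans m.2).symm
  right_inv g := by
    refine Subtype.ext ?_
    exact (congrArg (fun z : T ⟶ G ⊗ T => z ≫ fst G T)
      (point_ofPoint (A := trivObj K aX x') x (𝟙 T) (lift g.1 (𝟙 T)) (lift_snd _ _) (by
        change lift g.1 (𝟙 T) ≫ (G ◁ x') ≫ aX.act = x
        rw [lift_whiskerLeft_assoc, Category.id_comp]
        exact g.2))).trans (lift_fst _ _)

omit [K.IsStableUnderBaseChange] in
/-- An object over `T` with a rational point is trivial. -/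
theorem exists_iso_triv (A : QuotObj K G aX) (hA : A.base = T) (p : T ⟶ A.P)
    (hp : p ≫ A.π = eqToHom hA.symm) :
    ∃ m : trivObj K aX (p ≫ A.φ) ⟶ A, m.base = eqToHom hA.symm :=
  ⟨ofPoint (p ≫ A.φ) (eqToHom hA.symm) p hp rfl, rfl⟩

omit [K.HasIsos] [K.IsStableUnderBaseChange] in
/-- A morphism in the fibre has identity base. -/
theorem base_eq_id {a b : QuotObj K G aX} (ha : a.base = T) (hb : b.base = T) (m : a ⟶ b) :
    (QuotSt K G aX).p.IsHomLift (𝟙 T) m ↔ m.base = eqToHom (ha.trans hb.symm) := by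
  constructor
  · intro h
    have := IsHomLift.fac' (QuotSt K G aX).p (𝟙 T) m
    exact this.trans (by simp)
  · intro h
    exact IsHomLift.of_fac' (QuotSt K G aX).p (𝟙 T) m ha hb (h.trans (by simp))

/-- Morphisms of the fibre between trivial objects. -/
noncomputable def fiberHomEquiv (x x' : T ⟶ X) :
    ((Functor.Fiber.mk (p := (QuotSt K G aX).p) (a := trivObj K aX x) (rfl : _ = T)) ⟶
      Functor.Fiber.mk (p := (QuotSt K G aX).p) (a := trivObj K aX x') (rfl : _ = T)) ≃
      {g : T ⟶ G // lift g x' ≫ aX.act = x} :=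
  (Equiv.subtypeEquivRight fun m => (base_eq_id (T := T) rfl rfl m)).trans (homEquiv x x')

theorem isIso_fiber {c d : (QuotSt K G aX).p.Fiber T} (m : c ⟶ d) : IsIso m := by
  have hb := (base_eq_id c.2 d.2 m.1).1 m.2
  have : IsIso m.1.base := by rw [hb]; infer_instance
  have := isIso_of_base m.1
  have := m.2
  exact ⟨⟨inv m.1, inferInstance⟩, Subtype.ext (IsIso.hom_inv_id m.1), Subtype.ext (IsIso.inv_hom_id m.1)⟩

/-- The mass formula when all torsors over `T` have sections. -/
theorem mass [Finite (T ⟶ G)] [Finite (T ⟶ X)]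
    (htriv : ∀ A : QuotObj K G aX, ∀ hA : A.base = T, ∃ p : T ⟶ A.P, p ≫ A.π = eqToHom hA.symm) :
    Finite (Quotient (isIsomorphicSetoid ((QuotSt K G aX).p.Fiber T))) ∧
      (∀ ξ : (QuotSt K G aX).p.Fiber T, Finite (Aut ξ)) ∧
      ∑ᶠ c : Quotient (isIsomorphicSetoid ((QuotSt K G aX).p.Fiber T)), ((Nat.card (Aut c.out) : ℚ))⁻¹ =
        (Nat.card (T ⟶ X) : ℚ) / (Nat.card (T ⟶ G) : ℚ) := by
  letI := pointsAction aX T
  refine mass_of_action (C := (QuotSt K G aX).p.Fiber T) (Γ := T ⟶ G) (V := T ⟶ X)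
    (fun x => Functor.Fiber.mk (p := (QuotSt K G aX).p) (a := trivObj K aX x) rfl) (fun c => ?_)
    (fun m => isIso_fiber m) (fun x x' => ⟨fiberHomEquiv x x'⟩)
  obtain ⟨A, hA⟩ := c
  obtain ⟨p, hp⟩ := htriv A hA
  obtain ⟨m, hm⟩ := exists_iso_triv A hA p hp
  let m' : Functor.Fiber.mk (p := (QuotSt K G aX).p) (a := trivObj K aX (p ≫ A.φ)) (rfl : _ = T) ⟶
      (⟨A, hA⟩ : (QuotSt K G aX).p.Fiber T) := ⟨m, (base_eq_id rfl hA m).2 (hm.trans (by simp))⟩
  exact ⟨p ≫ A.φ, ⟨(@asIso _ _ _ _ m' (isIso_fiber m')).symm⟩⟩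

end Groth.Agent.Lib.QuotSt.PointCount
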