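import Groth.Agent.Lib.QuotSt.Triv
import Groth.Agent.Lib.AlgStack.SetoidDescent

/-!
# The diagonal of `[X/G]`
-/

set_option autoImplicit false
set_option backward.isDefEq.respectTransparency false
set_option backward.isDefEq.respectTransparency.types false

universe u

open CategoryTheory CategoryTheory.Limits MonoidalCategory CartesianMonoidalCategory MonObj GrpObj AlgebraicGeometry Opposite

namespace Groth.Agent.Lib.QuotSt

open AlgSt (QuotObj QuotSt ofSp ofSpMap toOverCat overMap RepByAlgSpWith)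
open AlgSp (Sp yon)
open FibCat (overCat fp fpFst fpSnd toSelf diag IsEquivOver)

variable {S : Scheme.{u}} {K : Precoverage Scheme.{u}} [K.HasIsos] [K.IsStableUnderBaseChange]
  {G X : Over S} [GrpObj G] {aX : AlgGrp.Action G X} {T : Over S}
  (z : overCat T ⥤ᵇ fp (toSelf (QuotSt K G aX)) (toSelf (QuotSt K G aX)))

/-- The first family. -/
abbrev fam₁ : overCat T ⥤ᵇ QuotSt K G aX := BasedFunctor.comp z (fpFst _ _)

/-- The second family. -/
abbrev fam₂ : overCat T ⥤ᵇ QuotSt K G aX := BasedFunctor.comp z (fpSnd _ _)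

/-- Pairs of points of the two torsors over the same point of the base. -/
noncomputable abbrev pairs : Over S := pullback (proj (fam₁ z)) (proj (fam₂ z))

/-- The two points of `X` under a pair. -/
noncomputable abbrev pairsToX : pairs z ⟶ X ⊗ X :=
  lift (pullback.fst _ _ ≫ (obj₀ (fam₁ z)).φ) (pullback.snd _ _ ≫ (obj₀ (fam₂ z)).φ)

/-- Pairs of points with the same image in `X`. -/
noncomputable abbrev isom : Over S := pullback (pairsToX z) (lift (𝟙 X) (𝟙 X))

/-- The first point. -/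
noncomputable abbrev pt₁ : isom z ⟶ (obj₀ (fam₁ z)).P := pullback.fst _ _ ≫ pullback.fst _ _

/-- The second point. -/
noncomputable abbrev pt₂ : isom z ⟶ (obj₀ (fam₂ z)).P := pullback.fst _ _ ≫ pullback.snd _ _

theorem pt_proj : pt₂ z ≫ proj (fam₂ z) = pt₁ z ≫ proj (fam₁ z) := by
  rw [Category.assoc, Category.assoc, pullback.condition]

theorem pt_φ : pt₂ z ≫ (obj₀ (fam₂ z)).φ = pt₁ z ≫ (obj₀ (fam₁ z)).φ := by
  have h := pullback.condition (f := pairsToX z) (g := lift (𝟙 X) (𝟙 X))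
  have h1 := congrArg (· ≫ fst X X) h
  have h2 := congrArg (· ≫ snd X X) h
  simp only [Category.assoc, lift_fst, lift_snd, Category.comp_id] at h1 h2 ⊢
  exact h2.trans h1.symm

theorem isom_ext {V : Over S} {a b : V ⟶ isom z} (h1 : a ≫ pt₁ z = b ≫ pt₁ z) (h2 : a ≫ pt₂ z = b ≫ pt₂ z) :
    a = b := by
  have h : a ≫ pullback.fst (pairsToX z) (lift (𝟙 X) (𝟙 X)) = b ≫ pullback.fst _ _ :=
    pullback.hom_ext (by simpa only [Category.assoc] using h1) (by simpa only [Category.assoc] using h2)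
  refine pullback.hom_ext h ?_
  have e : ∀ c : V ⟶ isom z, c ≫ pullback.snd (pairsToX z) (lift (𝟙 X) (𝟙 X)) =
      c ≫ pullback.fst _ _ ≫ pairsToX z ≫ fst X X := fun c => by
    rw [reassoc_of% pullback.condition (f := pairsToX z) (g := lift (𝟙 X) (𝟙 X)), lift_fst, Category.comp_id]
  rw [e, e, ← Category.assoc, h, Category.assoc]

theorem exists_isom {V : Over S} (p : V ⟶ (obj₀ (fam₁ z)).P) (q : V ⟶ (obj₀ (fam₂ z)).P)
    (h : p ≫ proj (fam₁ z) = q ≫ proj (fam₂ z)) (h' : q ≫ (obj₀ (fam₂ z)).φ = p ≫ (obj₀ (fam₁ z)).φ) :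
    ∃ m : V ⟶ isom z, m ≫ pt₁ z = p ∧ m ≫ pt₂ z = q := by
  refine ⟨pullback.lift (pullback.lift p q h) (p ≫ (obj₀ (fam₁ z)).φ) ?_, ?_, ?_⟩
  · apply CartesianMonoidalCategory.hom_ext <;> simp [h']
  · rw [pullback.lift_fst_assoc, pullback.lift_fst]
  · rw [pullback.lift_fst_assoc, pullback.lift_snd]

theorem base_pair (u : Over T) : ((z.obj u).obj.fst).base = u.left := z.w_obj u

/-- The common trivialisation at a point of `isom`. -/
noncomputable def isomTr₁ (g : Over (isom z)) :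
    (fam₁ z).obj (Over.mk ((g.hom ≫ pt₁ z) ≫ proj (fam₁ z))) ≅
      (atlas K aX).obj (Over.mk ((g.hom ≫ pt₁ z) ≫ (obj₀ (fam₁ z)).φ)) :=
  tr (fam₁ z) rfl rfl

theorem snd_proj (g : Over (isom z)) :
    (g.hom ≫ pt₂ z) ≫ proj (fam₂ z) = (g.hom ≫ pt₁ z) ≫ proj (fam₁ z) := by
  exact (Category.assoc _ _ _).trans ((congrArg (g.hom ≫ ·) (pt_proj z)).trans (Category.assoc _ _ _).symm)

theorem snd_φ (g : Over (isom z)) :
    (g.hom ≫ pt₂ z) ≫ (obj₀ (fam₂ z)).φ = (g.hom ≫ pt₁ z) ≫ (obj₀ (fam₁ z)).φ := by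
  exact (Category.assoc _ _ _).trans ((congrArg (g.hom ≫ ·) (pt_φ z)).trans (Category.assoc _ _ _).symm)

/-- The second trivialisation at a point of `isom`. -/
noncomputable def isomTr₂ (g : Over (isom z)) :
    (fam₂ z).obj (Over.mk ((g.hom ≫ pt₁ z) ≫ proj (fam₁ z))) ≅
      (atlas K aX).obj (Over.mk ((g.hom ≫ pt₁ z) ≫ (obj₀ (fam₁ z)).φ)) :=
  tr (fam₂ z) (snd_proj z g) (snd_φ z g)

theorem self_w {A B : (fp (toSelf (QuotSt K G aX)) (toSelf (QuotSt K G aX))).obj}
    (a : A.obj.fst ⟶ B.obj.fst) (b : A.obj.snd ⟶ B.obj.snd) (h₁ : A.obj.fst.base = B.obj.fst.base)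
    (h₂ : A.obj.snd.base = B.obj.snd.base) (ha : a.base = eqToHom h₁) (hb : b.base = eqToHom h₂) :
    (toSelf (QuotSt K G aX)).map a ≫ B.obj.iso.hom = A.obj.iso.hom ≫ (toSelf (QuotSt K G aX)).map b := by
  have hA := @IsHomLift.fac' _ _ _ _ (FibCat.selfOver (Over S)).p _ _ _ _ _ _ A.property
  have hB := @IsHomLift.fac' _ _ _ _ (FibCat.selfOver (Over S)).p _ _ _ _ _ _ B.property
  change a.base ≫ B.obj.iso.hom = A.obj.iso.hom ≫ b.base
  have hA' : A.obj.iso.hom = _ := hA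
  have hB' : B.obj.iso.hom = _ := hB
  rw [hA', hB', ha, hb]
  simp

theorem isomTr_inv_base {A B : QuotObj K G aX} (e : A ≅ B) (h : A.base = B.base) (he : e.hom.base = eqToHom h) :
    e.inv.base = eqToHom h.symm := by
  have := congrArg (fun k => k.base) e.hom_inv_id
  simp only [QuotObj.comp_base, he, QuotObj.id_base] at this
  rw [← cancel_epi (eqToHom h)]
  exact this.trans (by simp)

/-- The isomorphism of pairs at a point of `isom`. -/
noncomputable def isomPair (g : Over (isom z)) :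
    z.obj (Over.mk ((g.hom ≫ pt₁ z) ≫ proj (fam₁ z))) ≅
      (diag (toSelf (QuotSt K G aX))).obj ((atlas K aX).obj (Over.mk ((g.hom ≫ pt₁ z) ≫ (obj₀ (fam₁ z)).φ))) where
  hom := AlgStack.FibProd.homMk (isomTr₁ z g).hom (isomTr₂ z g).hom
    (self_w (A := z.obj _) (B := (diag (toSelf (QuotSt K G aX))).obj _) _ _ (base_obj (fam₁ z) _)
      (base_obj (fam₂ z) _) (tr_base _ _ _) (tr_base _ _ _))
  inv := AlgStack.FibProd.homMk (isomTr₁ z g).inv (isomTr₂ z g).inv
    (self_w (A := (diag (toSelf (QuotSt K G aX))).obj _) (B := z.obj _) _ _ (base_obj (fam₁ z) (Over.mk ((g.hom ≫ pt₁ z) ≫ proj (fam₁ z)))).symm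
      (base_obj (fam₂ z) (Over.mk ((g.hom ≫ pt₁ z) ≫ proj (fam₁ z)))).symm (isomTr_inv_base _ _ (tr_base _ _ _)) (isomTr_inv_base _ _ (tr_base _ _ _)))
  hom_inv_id := AlgStack.FibProd.hom_ext (Iso.hom_inv_id _) (Iso.hom_inv_id _)
  inv_hom_id := AlgStack.FibProd.hom_ext (Iso.inv_hom_id _) (Iso.inv_hom_id _)

theorem isomPair_isHomLift (g : Over (isom z)) :
    (fp (toSelf (QuotSt K G aX)) (toSelf (QuotSt K G aX))).p.IsHomLift (𝟙 g.left) (isomPair z g).hom := by
  refine IsHomLift.of_fac' _ _ _ (base_pair z _) rfl ?_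
  refine (tr_base (fam₁ z) (p := g.hom ≫ pt₁ z) rfl rfl).trans ?_
  simp

/-- The object over a point of `isom`. -/
noncomputable def isomObj (g : Over (isom z)) :
    (fp (BasedFunctor.comp (overMap (proj (fam₁ z))) z) (diag (toSelf (QuotSt K G aX)))).obj :=
  AlgStack.FibProd.objMk (F := BasedFunctor.comp (overMap (proj (fam₁ z))) z)
    (G := diag (toSelf (QuotSt K G aX))) (Over.mk (g.hom ≫ pt₁ z))
    ((atlas K aX).obj (Over.mk ((g.hom ≫ pt₁ z) ≫ (obj₀ (fam₁ z)).φ))) (isomPair z g) (isomPair_isHomLift z g)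

/-- Functoriality in the point of the first torsor. -/
noncomputable abbrev isomFst {g g' : Over (isom z)} (f : g ⟶ g') :
    Over.mk (g.hom ≫ pt₁ z) ⟶ Over.mk (g'.hom ≫ pt₁ z) :=
  Over.homMk f.left (by
    change f.left ≫ g'.hom ≫ pt₁ z = g.hom ≫ pt₁ z
    exact (Category.assoc _ _ _).symm.trans (congrArg (· ≫ pt₁ z) (Over.w f)))

/-- Functoriality in the point of `X`. -/
noncomputable abbrev isomSnd {g g' : Over (isom z)} (f : g ⟶ g') :
    Over.mk ((g.hom ≫ pt₁ z) ≫ (obj₀ (fam₁ z)).φ) ⟶ Over.mk ((g'.hom ≫ pt₁ z) ≫ (obj₀ (fam₁ z)).φ) :=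
  (Over.map (obj₀ (fam₁ z)).φ).map (isomFst z f)

theorem isomMap_w {g g' : Over (isom z)} (f : g ⟶ g') :
    z.map ((Over.map (proj (fam₁ z))).map (isomFst z f)) ≫ (isomPair z g').hom =
      (isomPair z g).hom ≫ (diag (toSelf (QuotSt K G aX))).map ((atlas K aX).map (isomSnd z f)) := by
  refine AlgStack.FibProd.hom_ext ?_ ?_
  · exact tr_naturality (fam₁ z) (v := f.left) rfl rfl rfl rfl _ (isomSnd z f) rfl rfl
      ((Category.assoc _ _ _).symm.trans (congrArg (· ≫ pt₁ z) (Over.w f)))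
  · exact tr_naturality (fam₂ z) (v := f.left) (snd_proj z g) (snd_φ z g) (snd_proj z g') (snd_φ z g') _ (isomSnd z f) rfl rfl
      ((Category.assoc _ _ _).symm.trans (congrArg (· ≫ pt₂ z) (Over.w f)))

/-- `isom` maps to the base change of the diagonal. -/
noncomputable def isomLift :
    overCat (isom z) ⥤ᵇ fp (BasedFunctor.comp (overMap (proj (fam₁ z))) z) (diag (toSelf (QuotSt K G aX))) where
  toFunctor :=
    { obj := fun g => isomObj z g
      map := fun {g g'} f => AlgStack.FibProd.homMk (x := isomObj z g) (y := isomObj z g')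
        (isomFst z f) ((atlas K aX).map (isomSnd z f)) (isomMap_w z f)
      map_id := fun g => AlgStack.FibProd.hom_ext rfl ((atlas K aX).map_id _)
      map_comp := fun f f' => AlgStack.FibProd.hom_ext rfl ((atlas K aX).map_comp (isomSnd z f) (isomSnd z f')) }
  w := rfl

theorem isomLift_fst : BasedFunctor.comp (isomLift z) (fpFst _ _) = overMap (pt₁ z) := rfl

theorem full_isomLift : (isomLift z).toFunctor.Full := ⟨fun {g g'} m => by
  change Over (isom z) at g g'
  let k : Over.mk (g.hom ≫ pt₁ z) ⟶ Over.mk (g'.hom ≫ pt₁ z) := m.hom.fst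
  let k' := (Over.map (obj₀ (fam₁ z)).φ).map k
  have hk : k.left ≫ g'.hom ≫ pt₁ z = g.hom ≫ pt₁ z := Over.w k
  have w : z.map ((Over.map (proj (fam₁ z))).map k) ≫ (isomPair z g').hom =
      (isomPair z g).hom ≫ (diag (toSelf (QuotSt K G aX))).map m.hom.snd := m.hom.w
  have w₁ : (fam₁ z).map ((Over.map (proj (fam₁ z))).map k) ≫ (isomTr₁ z g').hom =
      (isomTr₁ z g).hom ≫ m.hom.snd := congrArg (fun n => n.hom.fst) w
  have w₂ : (fam₂ z).map ((Over.map (proj (fam₁ z))).map k) ≫ (isomTr₂ z g').hom =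
      (isomTr₂ z g).hom ≫ m.hom.snd := congrArg (fun n => n.hom.snd) w
  have hsnd : m.hom.snd = (atlas K aX).map k' :=
    (cancel_epi (isomTr₁ z g).hom).1 (w₁.symm.trans
      (tr_naturality (fam₁ z) rfl rfl rfl rfl _ k' rfl rfl hk))
  have h2 : k.left ≫ g'.hom ≫ pt₂ z = g.hom ≫ pt₂ z := by
    rw [hsnd] at w₂
    exact point_eq_of_naturality (fam₂ z) (snd_proj z g) (snd_φ z g) (snd_proj z g') (snd_φ z g') _ k' rfl w₂
  have hw : k.left ≫ g'.hom = g.hom := isom_ext z
    ((Category.assoc _ _ _).trans hk) ((Category.assoc _ _ _).trans h2)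
  exact ⟨Over.homMk k.left hw, AlgStack.FibProd.hom_ext (Over.OverMorphism.ext rfl)
    ((congrArg (atlas K aX).map (Over.OverMorphism.ext rfl)).trans hsnd.symm)⟩⟩

theorem isEquivOver_isomLift : IsEquivOver (isomLift z) := by
  have : (isomLift z).toFunctor.Faithful := ⟨fun {a b f f'} h =>
    Over.OverMorphism.ext (congrArg (fun m => m.hom.fst.left) h :)⟩
  have := full_isomLift z
  refine AlgStack.BasedBasic.isEquivOver_of _ fun ζ => ?_
  obtain ⟨⟨g₁, R, i⟩, hi⟩ := ζ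
  change Over (obj₀ (fam₁ z)).P at g₁
  obtain ⟨V, p, rfl⟩ := g₁.mk_surjective
  change z.obj (Over.mk (p ≫ proj (fam₁ z))) ≅ (diag (toSelf (QuotSt K G aX))).obj R at i
  change (fp (toSelf (QuotSt K G aX)) (toSelf (QuotSt K G aX))).p.IsHomLift (𝟙 V) i.hom at hi
  let i₁ : (fam₁ z).obj (Over.mk (p ≫ proj (fam₁ z))) ≅ R :=
    (fpFst (toSelf (QuotSt K G aX)) (toSelf (QuotSt K G aX))).toFunctor.mapIso i
  let i₂ : (fam₂ z).obj (Over.mk (p ≫ proj (fam₁ z))) ≅ R :=
    (fpSnd (toSelf (QuotSt K G aX)) (toSelf (QuotSt K G aX))).toFunctor.mapIso i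
  let e₁ := tr (fam₁ z) (p := p) rfl rfl
  have hR : R.base = V := @IsHomLift.codomain_eq _ _ _ _ _ _ _ _ _ _ _ hi
  have h1 : i₁.hom.base = eqToHom (base_obj (fam₁ z) _) ≫ eqToHom hR.symm :=
    (@IsHomLift.fac' _ _ _ _ _ _ _ _ _ (𝟙 V) i.hom hi).trans (by simp)
  have h2 : i₂.hom.base = eqToHom (base_obj (fam₂ z) _) ≫ eqToHom hR.symm := by
    have hl : (QuotSt K G aX).p.IsHomLift i₁.hom.base i₂.hom :=
      FibCat.fp_isHomLift_snd (toSelf (QuotSt K G aX)) (toSelf (QuotSt K G aX)) i.hom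
    generalize hu : i₁.hom.base = w at hl
    rw [hu] at h1
    subst h1
    have := @IsHomLift.fac' _ _ _ _ (QuotSt K G aX).p _ _ _ _ _ i₂.hom hl
    exact this.trans (by simp)
  let j : R ≅ (atlas K aX).obj (Over.mk (p ≫ (obj₀ (fam₁ z)).φ)) := i₁.symm ≪≫ e₁
  have hib : i₁.inv.base = eqToHom hR ≫ eqToHom (base_obj (fam₁ z) (Over.mk (p ≫ proj (fam₁ z)))).symm := by
    have := congrArg (fun k => k.base) i₁.inv_hom_id
    simp only [QuotObj.comp_base, h1, QuotObj.id_base] at this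
    rw [← cancel_mono (eqToHom (base_obj (fam₁ z) (Over.mk (p ≫ proj (fam₁ z)))) ≫ eqToHom hR.symm)]
    exact this.trans (by simp)
  have hj : j.hom.base = eqToHom hR := by
    change i₁.inv.base ≫ e₁.hom.base = _
    rw [hib, tr_base]; simp
  obtain ⟨q, hq, hqx, he⟩ := exists_eq_tr (fam₂ z) (i₂ ≪≫ j) (by
    change i₂.hom.base ≫ j.hom.base = _
    rw [h2, hj]; simp)
  obtain ⟨m, hm1, hm2⟩ := exists_isom z p q hq.symm hqx
  subst hm1 hm2
  refine ⟨Over.mk m, ?_⟩
  refine AlgStack.FibProd.exists_iso_over (x := (isomLift z).obj (Over.mk m))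
    (y := ⟨⟨Over.mk (m ≫ pt₁ z), R, i⟩, hi⟩) (Iso.refl _) j.symm ?_ ?_
  · change z.map ((Over.map (proj (fam₁ z))).map (𝟙 (Over.mk (m ≫ pt₁ z)))) ≫ i.hom =
      (isomPair z (Over.mk m)).hom ≫ (diag (toSelf (QuotSt K G aX))).map j.inv
    rw [CategoryTheory.Functor.map_id, CategoryTheory.Functor.map_id, Category.id_comp]
    refine AlgStack.FibProd.hom_ext ?_ ?_
    · change i₁.hom = e₁.hom ≫ e₁.inv ≫ i₁.hom
      rw [Iso.hom_inv_id_assoc]
    · change i₂.hom = (tr (fam₂ z) hq hqx).hom ≫ j.inv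
      rw [← he]
      exact ((Category.assoc _ _ _).trans ((congrArg (i₂.hom ≫ ·) j.hom_inv_id).trans (Category.comp_id _))).symm
  · exact IsHomLift.of_fac' _ _ _ rfl rfl (by simp)

/-- The property of the first point of `isom`. -/
theorem property_pt₁ {P : MorphismProperty Scheme.{u}} [P.IsStableUnderBaseChange]
    (hc : ∀ ⦃A B C : Scheme.{u}⦄ (f : A ⟶ B) (g : B ⟶ C), P f → IsAffineHom g → P (f ≫ g))
    (hK : K ≤ Scheme.fpqcPrecoverage) (hG : IsAffineHom G.hom)
    (hX : P (pullback.diagonal X.hom)) : P (pt₁ z).left := by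
  rw [Over.comp_left]
  refine hc _ _ (P.of_isPullback ((IsPullback.of_hasPullback (pairsToX z) (lift (𝟙 X) (𝟙 X))).flip.map
    (Over.forget S)) hX) ?_
  exact MorphismProperty.of_isPullback (P := @IsAffineHom)
    ((IsPullback.of_hasPullback (proj (fam₁ z)) (proj (fam₂ z))).flip.map (Over.forget S))
    (property_proj (P := @IsAffineHom) (fam₂ z) hK hG)

omit [K.IsStableUnderBaseChange] in
theorem faithful_diag : (diag (toSelf (QuotSt K G aX))).toFunctor.Faithful :=
  ⟨fun {a b f g} h => congrArg (fun m => m.hom.fst) h⟩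

theorem setoidal_fp_diag : AlgStack.Yoneda.Setoidal (fp z (diag (toSelf (QuotSt K G aX)))) :=
  have := faithful_diag (K := K) (aX := aX)
  AlgStack.FibProd.setoidal_fp_of_faithful fun _ _ h => Over.OverMorphism.ext h

open AlgStack in
/-- The base change of the diagonal to the first torsor is `isom`. -/
theorem exists_equiv_isom :
    ∃ e : overCat (isom z) ⥤ᵇ fp (overMap (proj (fam₁ z))) (fpFst z (diag (toSelf (QuotSt K G aX)))),
      IsEquivOver e ∧ Nonempty (BasedFunctor.comp e (fpFst _ _) ≅ overMap (pt₁ z)) := by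
  obtain ⟨q, hq, -, ⟨ε⟩⟩ := BasedBasic.IsEquivOver.exists_inverse
    (Rep.isEquivOver_pasteBase (overMap (proj (fam₁ z))) z (diag (toSelf (QuotSt K G aX))))
  exact ⟨BasedFunctor.comp (isomLift z) q, BasedBasic.IsEquivOver.comp (isEquivOver_isomLift z) hq,
    ⟨eqToIso rfl ≪≫ BasedBasic.isoWhiskerLeft (isomLift z) (BasedBasic.isoWhiskerRight ε (fpFst _ _)) ≪≫ eqToIso rfl⟩⟩

omit [K.IsStableUnderBaseChange] in
theorem isPrestack_of_isStack {J : GrothendieckTopology (Over S)} {𝒳 : AlgSt.Cat S} (h : Stk.IsStack J 𝒳) :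
    Stk.IsPrestack J 𝒳 :=
  ⟨h.1, fun _ R hR => by
    have : (Stk.resSieve R 𝒳).IsEquivalence := h.2 R hR
    exact ⟨inferInstance, inferInstance⟩⟩

open AlgStack in
/-- Representability of the diagonal with a property that descends and is inherited by `isom`. -/
theorem exists_rep_diag (hK : K ≤ Scheme.fppfPrecoverage) (hG : IsAffineHom G.hom) [Flat G.hom]
    [LocallyOfFinitePresentation G.hom] [MorphismProperty.DescendsAlong @Flat.{u} (@Surjective ⊓ @Flat ⊓ @QuasiCompact)]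
    {P : MorphismProperty Scheme.{u}} [P.IsStableUnderBaseChange] [P.IsLocalAtTarget Scheme.fppfPrecoverage]
    (hP : ∀ ⦃A B : Scheme.{u}⦄ (f : A ⟶ B), P f → Mor2.IsQuasiAffine f)
    (hstack : Stk.IsStack (AlgSp.J S) (fp z (diag (toSelf (QuotSt K G aX)))))
    (h : P (pt₁ z).left) :
    ∃ (W : Over S) (w : W ⟶ T) (eW : overCat W ⥤ᵇ fp z (diag (toSelf (QuotSt K G aX)))),
      IsEquivOver eW ∧ Nonempty (BasedFunctor.comp eW (fpFst _ _) ≅ overMap w) ∧ P w.left := by
  have hK' := hK.trans Scheme.fppfPrecoverage_le_fpqcPrecoverage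
  have hc : AlgSpace.fppfCover (proj (fam₁ z)).left :=
    ⟨⟨surjective_proj hK' _, property_proj (P := @Flat) _ hK' ‹_›⟩,
      property_proj (P := @LocallyOfFinitePresentation) _ hK' ‹_›⟩
  obtain ⟨e, he, hfst⟩ := exists_equiv_isom z
  obtain ⟨W, w, k, eW, heW, hw, hk⟩ := SetoidDescent.exists_rep_of_cover hstack (setoidal_fp_diag z)
    (proj (fam₁ z)) hc (fpFst z _) (pt₁ z) (hP _ h) e he hfst
  exact ⟨W, w, eW, heW, hw, AlgSpMor.RepDescent.property_of_cover P (hk.map (Over.forget S)) hc h⟩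

open AlgStack in
/-- From scheme base changes to a representable diagonal. -/
theorem repByAlgSpWith_diag {P : MorphismProperty Scheme.{u}} {P' : MorphismProperty (Sp S)}
    (hP' : ∀ ⦃A B : Over S⦄ (f : A ⟶ B), P f.left → P' ((yon S).map f))
    (h : ∀ (T : Over S) (z : overCat T ⥤ᵇ fp (toSelf (QuotSt K G aX)) (toSelf (QuotSt K G aX))),
      ∃ (W : Over S) (w : W ⟶ T) (eW : overCat W ⥤ᵇ fp z (diag (toSelf (QuotSt K G aX)))),
        IsEquivOver eW ∧ Nonempty (BasedFunctor.comp eW (fpFst _ _) ≅ overMap w) ∧ P w.left) :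
    RepByAlgSpWith P' (diag (toSelf (QuotSt K G aX))) := fun T z => by
  obtain ⟨W, w, eW, heW, ⟨θ⟩, hw⟩ := h T z
  refine ⟨(AlgSp.ofScheme S).obj W, BasedFunctor.comp (toOverCat W) eW,
    BasedBasic.IsEquivOver.comp (Rep.isEquivOver_toOverCat W) heW, ?_⟩
  have key := (Rep.spMapOfOver_eq_of_iso (show BasedFunctor.comp (BasedFunctor.comp (toOverCat W) eW) (fpFst z _) ≅
    BasedFunctor.comp (ofSpMap ((yon S).map w)) (toOverCat T) from
    BasedBasic.isoWhiskerLeft (toOverCat W) θ ≪≫ eqToIso rfl)).trans (Rep.spMapOfOver_ofSpMap_toOverCat _)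
  erw [key]
  exact hP' w hw

open AlgStack in
/-- For the fppf topology the base change of the diagonal is a stack. -/
theorem isStack_fp_diag [K.IsStableUnderComposition] (h : Stk.IsStack (AlgSp.J S) (QuotSt K G aX)) :
    Stk.IsStack (AlgSp.J S) (fp z (diag (toSelf (QuotSt K G aX)))) := by
  have hfp : Stk.IsPrestack (AlgSp.J S) (fp (toSelf (QuotSt K G aX)) (toSelf (QuotSt K G aX))) :=
    isPrestack_of_isStack (StkFp.isStack_fp h h (isPrestack_of_isStack (StkRep.isStack_of_repByAlgSp IsAlgFp.repByAlgSp_selfOver)))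
  exact StkFp.isStack_fp (StkRep.isStack_of_repByAlgSp (Diag.repByAlgSp_overCat T)) h hfp

end Groth.Agent.Lib.QuotSt
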