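import Groth.Agent.Lib.QuotSt.Sheaf
import Groth.Prelude.Def_AlgSpRep

/-!
# The sheaf descended from objects of `[X/G]` on a sieve

For a functor on a covering sieve of `U` to `[X/G]`, the presheaf over `h_U` of compatible families of
sections of the torsors is an fppf sheaf whose base change to a member of the sieve is the torsor over it.
-/

set_option autoImplicit false
set_option backward.isDefEq.respectTransparency false
set_option backward.isDefEq.respectTransparency.types false

universe u

open CategoryTheory CategoryTheory.Limits MonoidalCategory CartesianMonoidalCategory MonObj GrpObj AlgebraicGeometry Opposite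

namespace Groth.Agent.Lib.QuotSt.Descended

open AlgSt (QuotObj QuotSt)
open AlgSp (Sp PSp yon)

variable {S : Scheme.{u}} {K : Precoverage Scheme.{u}} [K.HasIsos] [K.IsStableUnderBaseChange]
  {G X : Over S} [GrpObj G] {aX : AlgGrp.Action G X} {U : Over S} {R : Sieve U}
  (H : Stk.sieveCat R ⥤ᵇ QuotSt K G aX)

theorem base_eq (a : (Stk.sieveCat R).obj) : (H.obj a).base = a.obj.left := H.w_obj a

theorem map_base {a b : (Stk.sieveCat R).obj} (m : a ⟶ b) :
    (H.map m).base = eqToHom (base_eq H a) ≫ m.hom.left ≫ eqToHom (base_eq H b).symm :=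
  CategoryTheory.Functor.congr_hom H.w m

/-- The morphism of the sieve category over a morphism of the sources. -/
def arr {a b : (Stk.sieveCat R).obj} (v : a.obj.left ⟶ b.obj.left) (h : v ≫ b.obj.hom = a.obj.hom) : a ⟶ b :=
  ObjectProperty.homMk (Over.homMk v h)

omit [K.HasIsos] [K.IsStableUnderBaseChange] in
theorem eq_arr {a b : (Stk.sieveCat R).obj} (m : a ⟶ b) : m = arr m.hom.left (Over.w m.hom) :=
  ObjectProperty.hom_ext _ (Over.OverMorphism.ext rfl)

omit [K.HasIsos] [K.IsStableUnderBaseChange] in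
theorem arr_congr {a b : (Stk.sieveCat R).obj} {v v' : a.obj.left ⟶ b.obj.left} (e : v = v') (h) (h') :
    arr (b := b) v h = arr v' h' := by subst e; rfl

/-- The member of the sieve category of an arrow in the sieve. -/
def mem {V : Over S} (f : V ⟶ U) (hf : R f) : (Stk.sieveCat R).obj := ⟨Over.mk f, hf⟩

/-- A compatible family of sections over `Z`. -/
structure Sec (Z : Over S) : Type (u + 1) where
  /-- the map to the base -/
  base : Z ⟶ U
  /-- the sections -/
  sec : ∀ (a : (Stk.sieveCat R).obj) (v : a.obj.left ⟶ Z), v ≫ base = a.obj.hom → (a.obj.left ⟶ (H.obj a).P)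
  sec_π : ∀ a v h, sec a v h ≫ (H.obj a).π = eqToHom (base_eq H a).symm
  sec_map : ∀ (a b : (Stk.sieveCat R).obj) (m : a ⟶ b) (v : b.obj.left ⟶ Z) (h : v ≫ base = b.obj.hom)
    (h' : (m.hom.left ≫ v) ≫ base = a.obj.hom),
    m.hom.left ≫ sec b v h = sec a (m.hom.left ≫ v) h' ≫ (H.map m).top

variable {H}

theorem Sec.ext' {Z : Over S} {σ τ : Sec H Z} (hb : σ.base = τ.base)
    (hs : ∀ a v h h', σ.sec a v h = τ.sec a v h') : σ = τ := by
  obtain ⟨b, s, _, _⟩ := σ
  obtain ⟨b', s', _, _⟩ := τ
  obtain rfl : b = b' := hb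
  congr
  funext a v h
  exact hs a v h h

theorem Sec.congr {Z : Over S} (σ : Sec H Z) {a : (Stk.sieveCat R).obj} {v v' : a.obj.left ⟶ Z}
    (e : v = v') (h : v ≫ σ.base = a.obj.hom) (h' : v' ≫ σ.base = a.obj.hom) :
    σ.sec a v h = σ.sec a v' h' := by subst e; rfl

theorem Sec.congr' {Z : Over S} {σ τ : Sec H Z} (e : σ = τ) {a : (Stk.sieveCat R).obj}
    (v : a.obj.left ⟶ Z) (h : v ≫ σ.base = a.obj.hom) (h' : v ≫ τ.base = a.obj.hom) :
    σ.sec a v h = τ.sec a v h' := by subst e; rfl

/-- Restriction of families of sections. -/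
def Sec.restr {Z Z' : Over S} (σ : Sec H Z) (g : Z' ⟶ Z) : Sec H Z' where
  base := g ≫ σ.base
  sec a v h := σ.sec a (v ≫ g) (by rw [Category.assoc, h])
  sec_π a v h := σ.sec_π _ _ _
  sec_map a b m v h h' := by
    rw [σ.sec_map a b m (v ≫ g) (by rw [Category.assoc, h])
      (by rw [Category.assoc, Category.assoc, h]; exact Over.w m.hom)]
    rw [σ.congr (Category.assoc m.hom.left v g).symm]

variable (H)

/-- The presheaf of families of sections. -/
def psh : PSp S where
  obj Z := Sec H Z.unop
  map g := ↾fun σ => σ.restr g.unop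
  map_id Z := by
    ext σ
    exact Sec.ext' (Category.id_comp _) fun a v h h' => σ.congr (Category.comp_id v) _ _
  map_comp g g' := by
    ext σ
    exact Sec.ext' (Category.assoc _ _ _) fun a v h h' => σ.congr (Category.assoc v _ _).symm _ _

theorem isSheaf_of {J : GrothendieckTopology (Over S)} [J.Subcanonical] :
    Presheaf.IsSheaf J (psh H) := by
  rw [isSheaf_iff_isSheaf_of_type]
  intro Z T hT x hx
  have hx' := (Presieve.compatible_iff_sieveCompatible x).1 hx
  let x' : ∀ ⦃W : Over S⦄ (w : W ⟶ Z), T w → Sec H W := x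
  have hxc : ∀ ⦃W W' : Over S⦄ (g : W' ⟶ W) (w : W ⟶ Z) (hw : T w),
      x' (g ≫ w) (T.downward_closed hw g) = (x' w hw).restr g := fun W W' g w hw => hx' w g hw
  obtain ⟨base, hbase, -⟩ := exists_glue hT (fun W w hw => (x' w hw).base) fun W W' g w hw => by
    rw [hxc g w hw]; rfl
  have hb : ∀ ⦃W : Over S⦄ (w : W ⟶ Z) (hw : T w), (x' w hw).base = w ≫ base := fun W w hw =>
    (hbase w hw).symm
  -- the value on a member of the sieve mapping into `T`
  let val := fun (a : (Stk.sieveCat R).obj) (v : a.obj.left ⟶ Z) (h : v ≫ base = a.obj.hom)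
      (a' : (Stk.sieveCat R).obj) (m : a' ⟶ a) (hm : T (m.hom.left ≫ v)) =>
    (x' _ hm).sec a' (𝟙 _) (by rw [Category.id_comp, hb, Category.assoc, h]; exact Over.w m.hom) ≫
      (H.map m).top
  have val_comp : ∀ (a : (Stk.sieveCat R).obj) (v : a.obj.left ⟶ Z) (h : v ≫ base = a.obj.hom)
      (a' : (Stk.sieveCat R).obj) (m : a' ⟶ a) (hm : T (m.hom.left ≫ v)) (a'' : (Stk.sieveCat R).obj) (n : a'' ⟶ a')
      (hn : T ((n ≫ m).hom.left ≫ v)), val a v h a'' (n ≫ m) hn = n.hom.left ≫ val a v h a' m hm := by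
    intro a v h a' m hm a'' n hn
    simp only [val]
    rw [reassoc_of% ((x' _ hm).sec_map a'' a' n (𝟙 _) (by rw [Category.id_comp, hb, Category.assoc, h]; exact Over.w m.hom)
      (by rw [Category.comp_id, hb, Category.assoc, h, Over.w m.hom]; exact Over.w n.hom))]
    rw [Functor.map_comp, QuotObj.comp_top]
    congr 1
    have e : x' ((n ≫ m).hom.left ≫ v) hn = (x' _ hm).restr n.hom.left := by
      rw [← hxc n.hom.left _ hm]
      congr 1
    refine (Sec.congr' e _ _ (by
      change _ ≫ n.hom.left ≫ (x' _ hm).base = _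
      rw [Category.id_comp, hb, Category.assoc, h, Over.w m.hom]; exact Over.w n.hom)).trans ?_
    exact (x' _ hm).congr (Eq.trans (Category.id_comp _) (Category.comp_id _).symm) _ _
  -- the glued section on each member
  have hglue : ∀ a (v : a.obj.left ⟶ Z) (h : v ≫ base = a.obj.hom),
      ∃! s : a.obj.left ⟶ (H.obj a).P, ∀ a' (m : a' ⟶ a) (hm : T (m.hom.left ≫ v)),
        m.hom.left ≫ s = val a v h a' m hm := by
    intro a v h
    let ar : ∀ ⦃W : Over S⦄ (w : W ⟶ a.obj.left), mem (w ≫ a.obj.hom) (R.downward_closed a.property w) ⟶ a :=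
      fun W w => arr w rfl
    obtain ⟨s, hs, hu⟩ := exists_glue (J.pullback_stable v hT)
      (fun W w hw => val a v h _ (ar w) hw) fun W W' g w hw => by
        let n : mem ((g ≫ w) ≫ a.obj.hom) (R.downward_closed a.property _) ⟶
            mem (w ≫ a.obj.hom) (R.downward_closed a.property w) := arr g (Category.assoc _ _ _).symm
        have e : ar (g ≫ w) = n ≫ ar w := ObjectProperty.hom_ext _ (Over.OverMorphism.ext rfl)
        have := val_comp a v h _ (ar w) hw _ n (show T ((g ≫ w) ≫ v) by rw [Category.assoc]; exact T.downward_closed hw g)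
        exact this.symm.trans (by congr 1)
    refine ⟨s, fun a' m hm => ?_, fun s' hs' => hu s' fun W w hw => hs' _ (ar w) hw⟩
    let i : a' ⟶ mem (m.hom.left ≫ a.obj.hom) (R.downward_closed a.property _) :=
      arr (𝟙 _) ((Category.id_comp _).trans (Over.w m.hom))
    have e : m = i ≫ ar m.hom.left := ObjectProperty.hom_ext _ (Over.OverMorphism.ext (Category.id_comp _).symm)
    have hm' : T ((i ≫ ar m.hom.left).hom.left ≫ v) := e ▸ hm
    have h1 := val_comp a v h _ (ar m.hom.left) hm a' i hm'
    rw [hs m.hom.left hm]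
    refine Eq.trans (Eq.trans (Category.id_comp _).symm h1.symm) ?_
    congr 1
  choose s hs hu using hglue
  let σ : Sec H Z :=
    { base := base
      sec := s
      sec_π := fun a v h => by
        refine hom_ext_of_sieve (J.pullback_stable v hT) fun W w hw => ?_
        let m : mem (w ≫ a.obj.hom) (R.downward_closed a.property w) ⟶ a := arr w rfl
        have := hs a v h _ m hw
        change w ≫ s a v h ≫ _ = _
        rw [← Category.assoc]
        erw [this]
        simp only [val, Category.assoc]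
        rw [(H.map m).cart.w, map_base]
        erw [← Category.assoc, (x' _ hw).sec_π]
        simp [m, arr]
      sec_map := fun a b m v h h' => by
        refine hom_ext_of_sieve (J.pullback_stable (m.hom.left ≫ v) hT) fun W w hw => ?_
        let n : mem (w ≫ a.obj.hom) (R.downward_closed a.property w) ⟶ a := arr w rfl
        have hw' : T (n.hom.left ≫ m.hom.left ≫ v) := hw
        have hnm : T ((n ≫ m).hom.left ≫ v) := show T ((w ≫ m.hom.left) ≫ v) by rw [Category.assoc]; exact hw
        have e1 := hs b v h _ (n ≫ m) hnm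
        have e2 := hs a (m.hom.left ≫ v) h' _ n hw'
        change n.hom.left ≫ m.hom.left ≫ s b v h = n.hom.left ≫ s a (m.hom.left ≫ v) h' ≫ (H.map m).top
        rw [← Category.assoc, ← Category.assoc, e2]
        refine e1.trans ?_
        simp only [val, Functor.map_comp, QuotObj.comp_top, Category.assoc]
        congr 1 }
  refine ⟨σ, fun W w hw => ?_, fun τ hτ => ?_⟩
  · refine Sec.ext' (hbase w hw) fun a v h h' => ?_
    change s a (v ≫ w) _ = (x' w hw).sec a v h'
    have hm : T ((𝟙 a : a ⟶ a).hom.left ≫ v ≫ w) := by simpa using T.downward_closed hw v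
    have := hs a (v ≫ w) (by rw [Category.assoc]; exact h) a (𝟙 a) hm
    simp only [val] at this
    rw [CategoryTheory.Functor.map_id, QuotObj.id_top, Category.comp_id] at this
    refine Eq.trans ?_ (this.trans ?_)
    · exact (Category.id_comp _).symm
    · have e : x' ((𝟙 a : a ⟶ a).hom.left ≫ v ≫ w) hm = (x' w hw).restr v := by
        rw [← hxc v w hw]; congr 1
      refine (Sec.congr' e _ _ (by change _ ≫ v ≫ _ = _; rw [Category.id_comp]; exact h')).trans ?_
      exact (x' w hw).congr (Category.id_comp v) _ _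
  · have hbτ : τ.base = base := hom_ext_of_sieve hT fun W w hw =>
      (congrArg (fun (r : Sec H W) => r.base) (hτ w hw)).trans (hb w hw)
    refine Sec.ext' hbτ fun a v h h' => hu a v h' _ fun a' m hm => ?_
    rw [τ.sec_map a' a m v h (by rw [Category.assoc, h]; exact Over.w m.hom)]
    simp only [val]
    congr 1
    refine Eq.trans ?_ (Sec.congr' (hτ _ hm) (𝟙 a'.obj.left) (by
      change _ ≫ (m.hom.left ≫ v) ≫ τ.base = _
      rw [Category.id_comp, Category.assoc, h]; exact Over.w m.hom) _)
    exact τ.congr (Category.id_comp _).symm _ _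

theorem isSheaf : Presheaf.IsSheaf (AlgSp.J S) (psh H) := isSheaf_of H

/-- The descended sheaf. -/
def sh : Sp S := ⟨psh H, isSheaf H⟩

/-- Its map to the base. -/
def shHom : sh H ⟶ (yon S).obj U :=
  ObjectProperty.homMk { app := fun Z => ↾fun σ => ⟨(show Sec H Z.unop from σ).base⟩ }

/-- The family of sections attached to a point of one of the torsors. -/
noncomputable def ofPt (a : (Stk.sieveCat R).obj) {Y : Over S} (x : Y ⟶ (H.obj a).P) : Sec H Y where
  base := (x ≫ (H.obj a).π ≫ eqToHom (base_eq H a)) ≫ a.obj.hom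
  sec b v h := (H.map (arr (b := a) (v ≫ x ≫ (H.obj a).π ≫ eqToHom (base_eq H a))
    ((Category.assoc _ _ _).trans h))).cart.lift (v ≫ x) (eqToHom (base_eq H b).symm) (by
      rw [map_base]; simp [arr])
  sec_π b v h := IsPullback.lift_snd _ _ _ _
  sec_map b c m v h h' := by
    let A := arr (b := a) (v ≫ x ≫ (H.obj a).π ≫ eqToHom (base_eq H a)) ((Category.assoc _ _ _).trans h)
    apply (H.map A).cart.hom_ext
    · rw [Category.assoc, IsPullback.lift_fst, Category.assoc, ← QuotObj.comp_top, ← Functor.map_comp]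
      have e : arr (b := a) ((m.hom.left ≫ v) ≫ x ≫ (H.obj a).π ≫ eqToHom (base_eq H a))
          ((Category.assoc _ _ _).trans h') = m ≫ A :=
        ObjectProperty.hom_ext _ (Over.OverMorphism.ext (Category.assoc _ _ _))
      rw [← Category.assoc, ← e, IsPullback.lift_fst]
    · rw [Category.assoc, IsPullback.lift_snd, Category.assoc, (H.map m).cart.w]
      refine Eq.trans ?_ (Category.assoc _ _ _)
      erw [IsPullback.lift_snd]
      rw [map_base]
      simp

theorem ofPt_sec_top (a : (Stk.sieveCat R).obj) {Y : Over S} (x : Y ⟶ (H.obj a).P)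
    (b : (Stk.sieveCat R).obj) (v : b.obj.left ⟶ Y) (h : v ≫ (ofPt H a x).base = b.obj.hom) (m : b ⟶ a)
    (hm : m.hom.left = v ≫ x ≫ (H.obj a).π ≫ eqToHom (base_eq H a)) :
    (ofPt H a x).sec b v h ≫ (H.map m).top = v ≫ x := by
  obtain rfl : m = arr (b := a) (v ≫ x ≫ (H.obj a).π ≫ eqToHom (base_eq H a)) ((Category.assoc _ _ _).trans h) :=
    ObjectProperty.hom_ext _ (Over.OverMorphism.ext hm)
  exact IsPullback.lift_fst _ _ _ _

/-- The point of a torsor attached to a family of sections and a map to that member of the sieve. -/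
noncomputable def toPt (a : (Stk.sieveCat R).obj) {Y : Over S} (σ : Sec H Y) (y : Y ⟶ a.obj.left)
    (hy : y ≫ a.obj.hom = σ.base) : Y ⟶ (H.obj a).P :=
  σ.sec (mem σ.base (hy ▸ R.downward_closed a.property y)) (𝟙 Y) (Category.id_comp _) ≫
    (H.map (arr (a := mem σ.base (hy ▸ R.downward_closed a.property y)) y hy)).top

theorem toPt_π (a : (Stk.sieveCat R).obj) {Y : Over S} (σ : Sec H Y) (y : Y ⟶ a.obj.left)
    (hy : y ≫ a.obj.hom = σ.base) : toPt H a σ y hy ≫ (H.obj a).π ≫ eqToHom (base_eq H a) = y := by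
  rw [toPt, Category.assoc, reassoc_of% (H.map _).cart.w, map_base]
  erw [← Category.assoc, σ.sec_π]
  simp [arr, mem]

theorem toPt_ofPt (a : (Stk.sieveCat R).obj) {Y : Over S} (x : Y ⟶ (H.obj a).P) :
    toPt H a (ofPt H a x) (x ≫ (H.obj a).π ≫ eqToHom (base_eq H a)) rfl = x := by
  exact (ofPt_sec_top H a x _ _ _ _ (Category.id_comp _).symm).trans (Category.id_comp x)

theorem ofPt_toPt (a : (Stk.sieveCat R).obj) {Y : Over S} (σ : Sec H Y) (y : Y ⟶ a.obj.left)
    (hy : y ≫ a.obj.hom = σ.base) : ofPt H a (toPt H a σ y hy) = σ := by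
  refine Sec.ext' ?_ fun b v h h' => ?_
  · change (toPt H a σ y hy ≫ _) ≫ _ = _
    rw [toPt_π, hy]
  · apply IsPullback.hom_ext (H.map (arr (b := a) (v ≫ toPt H a σ y hy ≫ (H.obj a).π ≫ eqToHom (base_eq H a))
      ((Category.assoc _ _ _).trans h))).cart
    · simp only [ofPt, IsPullback.lift_fst]
      let n : b ⟶ mem σ.base (hy ▸ R.downward_closed a.property y) := arr v h'
      have e : arr (b := a) (v ≫ toPt H a σ y hy ≫ (H.obj a).π ≫ eqToHom (base_eq H a))
          ((Category.assoc _ _ _).trans h) = n ≫ arr y hy :=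
        ObjectProperty.hom_ext _ (Over.OverMorphism.ext (by simp [n, arr, toPt_π]; rfl))
      rw [e, Functor.map_comp, QuotObj.comp_top, toPt, ← Category.assoc, ← Category.assoc]
      congr 1
      refine (σ.sec_map b _ n (𝟙 Y) (Category.id_comp _) (by change (v ≫ 𝟙 Y) ≫ σ.base = _; rw [Category.comp_id]; exact h')).trans ?_
      congr 1
    · simp only [ofPt, IsPullback.lift_snd]
      rw [σ.sec_π]

theorem ofPt_restr (a : (Stk.sieveCat R).obj) {Y Y' : Over S} (g : Y' ⟶ Y) (x : Y ⟶ (H.obj a).P) :
    ofPt H a (g ≫ x) = (ofPt H a x).restr g := by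
  refine Sec.ext' (by simp [ofPt, Sec.restr]) fun b v h h' => ?_
  change _ = IsPullback.lift _ _ _ _
  apply IsPullback.hom_ext (H.map (arr (b := a) ((v ≫ g) ≫ x ≫ (H.obj a).π ≫ eqToHom (base_eq H a))
    (by exact ((congrArg (_ ≫ ·) (by simp [ofPt])).trans h')))).cart
  · exact (ofPt_sec_top H a (g ≫ x) b v h _ (by simp [arr])).trans
      ((Category.assoc _ _ _).symm.trans (IsPullback.lift_fst _ _ _ _).symm)
  · simp [ofPt]

/-- The map from a torsor to the descended sheaf. -/
noncomputable def incl (a : (Stk.sieveCat R).obj) : (yon S).obj (H.obj a).P ⟶ sh H :=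
  ObjectProperty.homMk
    { app := fun Y => ↾fun x => (show Sec H Y.unop from ofPt H a x.down)
      naturality := fun Y Y' g => by
        ext x
        exact ofPt_restr H a g.unop x.down }

/-- The base change of the descended sheaf to a member of the sieve is the torsor over it. -/
theorem isPullback_incl (a : (Stk.sieveCat R).obj) :
    IsPullback (incl H a) ((yon S).map ((H.obj a).π ≫ eqToHom (base_eq H a))) (shHom H)
      ((yon S).map a.obj.hom) := by
  refine IsPullback.of_map (sheafToPresheaf _ _) ?_ ?_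
  · ext Y x
    rfl
  refine IsPullback.of_forall_isPullback_app fun Y => ?_
  rw [Types.isPullback_iff]
  refine ⟨by ext x; rfl, ?_, ?_⟩
  · rintro ⟨x₁⟩ ⟨x₂⟩ ⟨h1, h2⟩
    have h1' : ofPt H a x₁ = ofPt H a x₂ := h1
    have h2' : x₁ ≫ (H.obj a).π ≫ eqToHom (base_eq H a) = x₂ ≫ (H.obj a).π ≫ eqToHom (base_eq H a) :=
      congrArg ULift.down h2
    refine congrArg ULift.up ?_
    rw [← toPt_ofPt H a x₁, ← toPt_ofPt H a x₂]
    congr 1
  · rintro (σ : Sec H Y.unop) ⟨y⟩ h
    have hy : y ≫ a.obj.hom = σ.base := (congrArg ULift.down h).symm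
    exact ⟨⟨toPt H a σ y hy⟩, ofPt_toPt H a σ y hy, congrArg ULift.up (toPt_π H a σ y hy)⟩

end Groth.Agent.Lib.QuotSt.Descended
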