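import Groth.Agent.Lib.QuotSt.DiagAffine
import Groth.Agent.Lib.AlgSpace.DescendRep

/-!
# The diagonal of `[X/G]` for etale-locally trivial torsors under a smooth group
-/

set_option autoImplicit false
set_option backward.isDefEq.respectTransparency false
set_option backward.isDefEq.respectTransparency.types false

universe u

open CategoryTheory CategoryTheory.Limits MonoidalCategory CartesianMonoidalCategory MonObj GrpObj AlgebraicGeometry Opposite

namespace Groth.Agent.Lib.QuotSt

open AlgSt (QuotObj QuotSt overMap)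
open FibCat (overCat fp fpFst toSelf diag)

variable {S : Scheme.{u}} {G X : Over S} [GrpObj G] {aX : AlgGrp.Action G X} {T : Over S}

theorem isStableUnderComposition_etale : Scheme.etalePrecoverage.{u}.IsStableUnderComposition := by
  have : MorphismProperty.IsStableUnderComposition @Etale.{u} :=
    (inferInstance : MorphismProperty.IsMultiplicative @Etale.{u}).toIsStableUnderComposition
  unfold Scheme.etalePrecoverage
  infer_instance

open AlgStack in
/-- For etale-locally trivial torsors under a smooth group the base change of the diagonal is an fppf stack. -/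
theorem isStack_fp_diag_etale (hGs : Smooth G.hom) (hGa : IsAffineHom G.hom)
    (z : overCat T ⥤ᵇ fp (toSelf (QuotSt Scheme.etalePrecoverage G aX))
      (toSelf (QuotSt Scheme.etalePrecoverage G aX))) :
    Stk.IsStack (AlgSp.J S) (fp z (diag (toSelf (QuotSt Scheme.etalePrecoverage G aX)))) := by
  have := isStableUnderComposition_etale.{u}
  have hK : Scheme.etalePrecoverage.{u} ≤ Scheme.fppfPrecoverage :=
    TorsorSch.Descent.etalePrecoverage_le_fppfPrecoverage
  have hK' := hK.trans Scheme.fppfPrecoverage_le_fpqcPrecoverage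
  have hQ : Stk.IsStack (QuotSh.J Scheme.etalePrecoverage S) (QuotSt Scheme.etalePrecoverage G aX) := isStack hK
  have hst : Stk.IsStack (QuotSh.J Scheme.etalePrecoverage S)
      (fp z (diag (toSelf (QuotSt Scheme.etalePrecoverage G aX)))) :=
    StkFp.isStack_fp (EtaleBoot.isStack_etale (StkRep.isStack_of_repByAlgSp (Diag.repByAlgSp_overCat T))) hQ
      (isPrestack_of_isStack (StkFp.isStack_fp hQ hQ (isPrestack_of_isStack
        (EtaleBoot.isStack_etale (StkRep.isStack_of_repByAlgSp IsAlgFp.repByAlgSp_selfOver)))))
  obtain ⟨e, he, -⟩ := exists_equiv_isom z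
  have hsm : Smooth (proj (fam₁ z)).left := property_proj (P := @Smooth) _ hK' hGs
  have hsj : Surjective (proj (fam₁ z)).left := surjective_proj hK' _
  obtain ⟨V, g, l, hge, hgs, hl⟩ := EtaleSection.Sections.exists_etale_surjective_section (proj (fam₁ z)).left
  let l' : Over.mk (g ≫ T.hom) ⟶ (obj₀ (fam₁ z)).P := Over.homMk l (by
    rw [← Over.w (proj (fam₁ z)), ← Category.assoc, hl]; rfl)
  let c : Over.mk (g ≫ T.hom) ⟶ T := Over.homMk g
  have hc : l' ≫ proj (fam₁ z) = c := Over.OverMorphism.ext hl
  let f := fpFst z (diag (toSelf (QuotSt Scheme.etalePrecoverage G aX)))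
  have hP : AlgSt.RepByAlgSp (fp (overMap (proj (fam₁ z))) f) :=
    Rep.repByAlgSp_of_equiv he (Diag.repByAlgSp_overCat _)
  have h1 : AlgSt.RepByAlgSp (fp (overMap l') (fpFst (overMap (proj (fam₁ z))) f)) :=
    Diag.repByAlgSp_fp (Diag.repByAlgSp_overCat _) hP (Diag.repByAlgSp_overCat _) _ _
  have h2 : AlgSt.RepByAlgSp (fp (BasedFunctor.comp (overMap l') (overMap (proj (fam₁ z)))) f) :=
    Rep.repByAlgSp_of_equiv (Rep.isEquivOver_pasteBase (overMap l') (overMap (proj (fam₁ z))) f) h1
  let i : BasedFunctor.comp (overMap l') (overMap (proj (fam₁ z))) ≅ overMap c :=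
    BasedNatIso.mkNatIso
      (NatIso.ofComponents
        (fun h : Over (Over.mk (g ≫ T.hom)) => Over.isoMk (Iso.refl h.left)
          ((Category.id_comp _).trans ((congrArg (h.hom ≫ ·) hc.symm).trans (Category.assoc _ _ _).symm)))
        (fun k => Over.OverMorphism.ext (by exact (Category.comp_id _).trans (Category.id_comp _).symm)))
      (fun h => IsHomLift.of_fac' _ _ _ rfl rfl (by simp; rfl))
  exact StkRep.isStack_of_repByAlgSp (EtaleBoot.repByAlgSp_of_etaleCover hst (setoidal_fp_diag z) c hge hgs f
    (Rep.repByAlgSp_of_equiv (FibProd.isEquivOver_congrLeft i f) h2))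

end Groth.Agent.Lib.QuotSt
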