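import Groth.Agent.Lib.QuotSt.BGMono
import Groth.Agent.Lib.QuotSt.Stack
import Groth.Agent.Lib.Fibred.StackLocal
import Groth.Agent.Lib.Fibred.EquivOver
import Groth.Prelude.Def_StGerb
import Groth.Prelude.Def_AlgSt5

/-!
# A gerbe over the base with a section is a classifying stack
-/

set_option autoImplicit false
set_option backward.isDefEq.respectTransparency false
set_option backward.isDefEq.respectTransparency.types false

universe u

open CategoryTheory CategoryTheory.Limits AlgebraicGeometry Opposite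
open Groth.Agent.Lib.Fibred.Descent
open Groth.Agent.Lib.Fibred.StackLemmas (isIso_of_vertical)

noncomputable section

namespace Groth.Agent.Lib.QuotSt.GerbeBG

open BGMono (sl data)

variable {S : Scheme.{u}} {G : Over S} [GrpObj G] {𝒳 : AlgSt.Cat S}

/-- A gerbe over the base with a section whose automorphisms are an affine group is its classifying stack. -/
theorem isQuotientOf [IsAffineHom G.hom] (h𝒳 : AlgSt.IsAlgStack Scheme.fppfPrecoverage 𝒳)
    (π : 𝒳 ⥤ᵇ FibCat.overCat (Over.mk (𝟙 S)))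
    (hπ : Gerb.LocSurjHom (QuotSh.J Scheme.fppfPrecoverage S) π)
    (x : FibCat.overCat (Over.mk (𝟙 S)) ⥤ᵇ 𝒳) (r : Gerb.AutRep x (Gerb.ptsGrp (Over.mk (𝟙 S)) G)) :
    AlgSt.IsQuotientOf Scheme.fppfPrecoverage G (AlgSt.trivAction G) 𝒳 := by
  have g𝒳 := h𝒳.isStack.1
  have hB : Stk.IsStack (AlgSp.J S) (AlgSt.BG Scheme.fppfPrecoverage G) :=
    Lib.QuotSt.isStack (K := Scheme.fppfPrecoverage) (aX := AlgSt.trivAction G) le_rfl
  let D := data x r g𝒳
  obtain ⟨F, hFu, hFf, τ, hτ, -⟩ := Lib.Fibred.DenseExt.exists_fullyFaithful D (AlgSp.J S) hB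
    h𝒳.isStack fun o => by
      obtain ⟨R, hR, hl⟩ := H14.IsoNat.BGNeutral.locally_triv G o
      exact (AlgSp.J S).superset_covering (fun V f hf => hl f hf) hR
  haveI := hFu
  haveI := hFf
  refine ⟨F, @Lib.Fibred.EquivOver.isEquivOver_of_ff_essSurj _ _ _ _ F hFu hFf
    (Fibred.StackLocal.essSurjOver_of_locally F (AlgSp.J S) hB h𝒳.isStack fun y => ?_)⟩
  let T := 𝒳.p.obj y
  let w := x.obj (sl T)
  have hw : 𝒳.p.obj w = T := x.w_obj (sl T)
  have e1 : (π.obj w).left = T := (π.w_obj w).trans hw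
  have e2 : (π.obj y).left = T := π.w_obj y
  let b : π.obj w ⟶ π.obj y := Over.homMk (eqToHom (e1.trans e2.symm))
    (Over.OverMorphism.ext ((Category.comp_id _).symm.trans ((Over.w _).trans
      ((Over.w (π.obj w).hom).symm.trans (Category.comp_id _)))))
  have hb : (FibCat.overCat (Over.mk (𝟙 S))).p.IsHomLift (𝟙 (𝒳.p.obj w)) b :=
    IsHomLift.of_fac' _ _ _ (π.w_obj w) (e2.trans hw.symm) (by simp [b]; rfl)
  obtain ⟨R, hR, hl⟩ := hπ w y b hb
  let R' : Sieve T := R.pullback (eqToHom hw.symm)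
  refine ⟨R', (AlgSp.J S).pullback_stable _ hR, fun V f hf => ?_⟩
  obtain ⟨x₀, φ, ψ, hφ, hψ, he⟩ := hl (f ≫ eqToHom hw.symm) hf
  -- the restriction of the section
  let u : sl V ⟶ sl T := BGMono.slMap f
  have hu : 𝒳.p.IsHomLift f (x.map u) := BGMono.map_lift x f
  have hu' : 𝒳.p.IsHomLift (f ≫ eqToHom hw.symm) (x.map u) :=
    IsHomLift.of_fac' _ _ _ (x.w_obj (sl V)) rfl (by
      rw [IsHomLift.fac' 𝒳.p f (x.map u)]; simp)
  obtain ⟨θ, hθ, -⟩ := Fibred.Descent.exists_factor g𝒳 φ hφ (x.map u) hu'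
  have := hτ V
  have := isIso_of_vertical g𝒳 (τ V) (hτ V)
  have : 𝒳.p.IsHomLift (𝟙 V) (CategoryTheory.inv (τ V)) := IsHomLift.lift_id_inv_isIso _ _ _
  have hV : 𝒳.p.IsHomLift (𝟙 V ≫ 𝟙 V ≫ (f ≫ eqToHom hw.symm)) (CategoryTheory.inv (τ V) ≫ θ ≫ ψ) :=
    inferInstance
  refine ⟨_, CategoryTheory.inv (τ V) ≫ θ ≫ ψ, ?_⟩
  have hd := IsHomLift.fac' 𝒳.p (𝟙 V ≫ 𝟙 V ≫ (f ≫ eqToHom hw.symm)) (CategoryTheory.inv (τ V) ≫ θ ≫ ψ)
  refine IsHomLift.of_fac' _ _ _ (IsHomLift.domain_eq 𝒳.p (𝟙 V ≫ 𝟙 V ≫ (f ≫ eqToHom hw.symm))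
    (CategoryTheory.inv (τ V) ≫ θ ≫ ψ)) rfl ?_
  rw [hd]
  simp

end Groth.Agent.Lib.QuotSt.GerbeBG
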