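import Groth.Agent.Lib.QuotSt.Descended
import Groth.Agent.Lib.AlgSpace.DescendRep
import Groth.Agent.Lib.AlgSpace.Coprod
import Groth.Agent.Lib.UnivThick.OpenCover
import Groth.Agent.Lib.Ample.Pullback

/-!
# The descended sheaf of torsors under an affine group scheme is a scheme
-/

set_option autoImplicit false
set_option backward.isDefEq.respectTransparency false
set_option backward.isDefEq.respectTransparency.types false

universe u

open CategoryTheory CategoryTheory.Limits MonoidalCategory CartesianMonoidalCategory MonObj GrpObj AlgebraicGeometry Opposite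

namespace Groth.Agent.Lib.QuotSt

open AlgSt (QuotObj QuotSt)
open AlgSp (Sp yon RepWith)

variable {S : Scheme.{u}} {K : Precoverage Scheme.{u}} {U : Over S} {R : Sieve U}

/-- A covering sieve in the slice contains a covering family of the source indexed by points. -/
theorem exists_family [K.IsStableUnderComposition] [K.IsStableUnderBaseChange] [K.HasIsos]
    (hR : R ∈ QuotSh.J K S U) :
    ∃ R₀ ∈ K U.left, ∀ ⦃V : Scheme.{u}⦄ (f : V ⟶ U.left), R₀ f →
      R (Over.homMk f : Over.mk (f ≫ U.hom) ⟶ U) := by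
  rw [GrothendieckTopology.mem_over_iff] at hR
  obtain ⟨R₀, hR₀, hle⟩ := (Precoverage.mem_toGrothendieck_iff_of_isStableUnderComposition (J := K)).1 hR
  exact ⟨R₀, hR₀, fun V f hf => (Sieve.overEquiv_iff R f).1 (hle _ _ hf)⟩

namespace Descended

variable [K.HasIsos] [K.IsStableUnderBaseChange] {G X : Over S} [GrpObj G] {aX : AlgGrp.Action G X}
  (H : Stk.sieveCat R ⥤ᵇ QuotSt K G aX)

/-- The descended sheaf is a scheme. -/
theorem exists_rep [K.IsStableUnderComposition] (hK : K ≤ Scheme.fppfPrecoverage)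
    (hR : R ∈ QuotSh.J K S U) [IsAffineHom G.hom] :
    ∃ (W : Over S) (w : W ⟶ U) (e : (yon S).obj W ≅ sh H), e.hom ≫ shHom H = (yon S).map w := by
  obtain ⟨R₀, hR₀, hmem⟩ := exists_family hR
  obtain ⟨J, Z₀, g₀, hR₀e⟩ := R₀.exists_eq_ofArrows
  have hK' := hK _ hR₀
  rw [hR₀e] at hK'
  obtain ⟨hsurj, hflfp⟩ := (Scheme.ofArrows_mem_precoverage_iff _).1 hK'
  choose k hk using hsurj
  let V (t : ↥U.left) : Scheme.{u} := Z₀ (k t)
  let f (t : ↥U.left) : V t ⟶ U.left := g₀ (k t)
  have hft : ∀ t, t ∈ Set.range (f t) := hk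
  have hf : ∀ t, R₀ (f t) := fun t => hR₀e ▸ Presieve.ofArrows.mk (k t)
  have hprop : ∀ t, Flat (f t) ∧ LocallyOfFinitePresentation (f t) := fun t => hflfp (k t)
  let a (t : ↥U.left) : (Stk.sieveCat R).obj :=
    mem (Over.homMk (f t) : Over.mk (f t ≫ U.hom) ⟶ U) (hmem _ (hf t))
  let Z (t : ↥U.left) : Over S := (a t).obj.left
  let T'' : Over S := AlgSpace.sigmaOver Z
  let p : T'' ⟶ U := Over.homMk (Sigma.desc fun t => f t)
    (Sigma.hom_ext _ _ fun t => by simp [T'', Z, a, mem])
  have hιp : ∀ t, AlgSpace.sigmaOverι Z t ≫ p = (a t).obj.hom := fun t =>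
    Over.OverMorphism.ext (Sigma.ι_desc (fun t => f t) t)
  have hp : AlgSpace.fppfCover p.left := by
    refine ⟨⟨⟨fun u => ?_⟩, IsZariskiLocalAtSource.sigmaDesc (P := @Flat) fun t => (hprop t).1⟩,
      IsZariskiLocalAtSource.sigmaDesc (P := @LocallyOfFinitePresentation) fun t => (hprop t).2⟩
    obtain ⟨v, hv⟩ := hft u
    refine ⟨Sigma.ι (fun t => (Z t).left) u v, ?_⟩
    change (Sigma.ι (fun t => (Z t).left) u ≫ Sigma.desc fun t => f t) v = u
    exact (congrArg (fun k : (Z u).left ⟶ U.left => k v) (Sigma.ι_desc (fun t => f t) u)).trans hv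
  have sq := IsPullback.of_hasPullback (shHom H) ((yon S).map p)
  let π' (t : ↥U.left) : (H.obj (a t)).P ⟶ Z t := (H.obj (a t)).π ≫ eqToHom (base_eq H (a t))
  let g (t : ↥U.left) : (yon S).obj (H.obj (a t)).P ⟶ pullback (shHom H) ((yon S).map p) :=
    pullback.lift (incl H (a t)) ((yon S).map (π' t ≫ AlgSpace.sigmaOverι Z t)) (by
      rw [(isPullback_incl H (a t)).w, ← Functor.map_comp, ← Functor.map_comp, Category.assoc _ _ p, hιp])
  have hg : ∀ t, IsPullback (g t) ((yon S).map (π' t)) (pullback.snd (shHom H) ((yon S).map p))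
      ((yon S).map (AlgSpace.sigmaOverι Z t)) := fun t => by
    refine IsPullback.of_right ?_ (by simp [g]) sq
    have h := isPullback_incl H (a t)
    rw [← hιp, Functor.map_comp] at h
    rw [show g t ≫ pullback.fst _ _ = incl H (a t) from pullback.lift_fst _ _ _]
    exact h
  have hgo : ∀ t, RepWith @IsOpenImmersion (g t) := fun t =>
    AlgSpace.repWith_baseChange (hg t).flip ((AlgSp.repWith_yon_map_iff _ _).2
      (inferInstanceAs (IsOpenImmersion (Sigma.ι (fun t => (Z t).left) t))))
  obtain ⟨Q, φ, inj, hφ, hinj, hinjo, hinjs⟩ := UnivThick.OpenCover.exists_scheme_iso hgo fun T b x => by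
    obtain ⟨m, hm⟩ := (yon S).map_surjective (b ≫ pullback.snd _ _)
    obtain ⟨i, z, hz⟩ := (sigmaOpenCover fun t => (Z t).left).exists_eq (m.left x)
    have sqm := (IsPullback.of_hasPullback m (AlgSpace.sigmaOverι Z i)).map (Over.forget S)
    obtain ⟨y, hy, -⟩ := Scheme.exists_preimage_of_isPullback sqm x z hz.symm
    let l := (hg i).lift ((yon S).map (pullback.fst m (AlgSpace.sigmaOverι Z i)) ≫ b)
      ((yon S).map (pullback.snd m (AlgSpace.sigmaOverι Z i))) (by
        rw [Category.assoc, ← hm, ← Functor.map_comp, ← Functor.map_comp, pullback.condition])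
    obtain ⟨r, hr⟩ := (yon S).map_surjective (((hgo i).1.isPullback' b).lift l
      ((yon S).map (pullback.fst m (AlgSpace.sigmaOverι Z i))) ((hg i).lift_fst _ _ _))
    refine ⟨i, r.left y, ?_⟩
    have : r ≫ (hgo i).1.snd b = pullback.fst m (AlgSpace.sigmaOverι Z i) :=
      (yon S).map_injective (by rw [Functor.map_comp, hr]; exact IsPullback.lift_snd _ _ _ _)
    rw [← Scheme.Hom.comp_apply, ← Over.comp_left, this]
    exact hy
  obtain ⟨w'', hw''⟩ := (yon S).map_surjective (φ ≫ pullback.snd (shHom H) ((yon S).map p))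
  have sq' : IsPullback (φ ≫ pullback.fst _ _) ((yon S).map w'') (shHom H) ((yon S).map p) :=
    sq.of_iso (asIso φ).symm (Iso.refl _) (Iso.refl _) (Iso.refl _) (by simp) (by simp [hw'']) (by simp) (by simp)
  have sqi : ∀ t, IsPullback (inj t) (π' t) w'' (AlgSpace.sigmaOverι Z t) := fun t =>
    AlgSpace.isPullback_of_yon_map ((hg t).of_iso (Iso.refl _) (asIso φ).symm (Iso.refl _) (Iso.refl _)
      (by simp [← hinj t]) (by simp) (by simp [hw'']) (by simp))
  have haff : IsAffineHom w''.left := by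
    rw [IsZariskiLocalAtTarget.iff_of_openCover (P := @IsAffineHom) (sigmaOpenCover fun t => (Z t).left)]
    intro t
    have sqt := ((sqi t).map (Over.forget S))
    change IsAffineHom (pullback.snd w''.left (Sigma.ι (fun t => (Z t).left) t))
    have hπ : IsAffineHom (π' t).left := by
      have := property_π (P := @IsAffineHom) (hK.trans Scheme.fppfPrecoverage_le_fpqcPrecoverage)
        (H.obj (a t)) ‹_›
      change IsAffineHom ((H.obj (a t)).π.left ≫ (eqToHom (base_eq H (a t))).left)
      infer_instance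
    refine (MorphismProperty.cancel_left_of_respectsIso @IsAffineHom sqt.isoPullback.hom _).1 ?_
    erw [sqt.isoPullback_hom_snd]
    exact hπ
  obtain ⟨W, w, e, -, he, -, -⟩ := AlgSpace.exists_iso_yon_of_descent hp sq' fun D hD =>
    AlgSpace.effective_quasiAffine _ hp D (by
      rw [hD]; exact Ample.Pullback.isQuasiAffine_of_isAffineHom w''.left)
  exact ⟨W, w, e, he⟩

end Descended

end Groth.Agent.Lib.QuotSt
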