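import Groth.Agent.Lib.QuotSt.Atlas

/-!
# Trivialisations of a family of torsors at a point, in transported form
-/

set_option autoImplicit false
set_option backward.isDefEq.respectTransparency false
set_option backward.isDefEq.respectTransparency.types false

universe u

open CategoryTheory CategoryTheory.Limits MonoidalCategory CartesianMonoidalCategory MonObj GrpObj AlgebraicGeometry Opposite

namespace Groth.Agent.Lib.QuotSt

open AlgSt (QuotObj QuotSt)
open FibCat (overCat)

variable {S : Scheme.{u}} {K : Precoverage Scheme.{u}} [K.HasIsos] [K.IsStableUnderBaseChange]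
  {G X : Over S} [GrpObj G] {aX : AlgGrp.Action G X} {T : Over S} (y : overCat T ⥤ᵇ QuotSt K G aX)
  {V : Over S}

/-- The morphism to the classified object given by a point of the torsor. -/
noncomputable abbrev ptHom {p : V ⟶ (obj₀ y).P} {x : V ⟶ X} (hx : p ≫ (obj₀ y).φ = x) :
    trivObj K aX x ⟶ obj₀ y :=
  ofPoint x (p ≫ (obj₀ y).π) p rfl hx

theorem exists_tr {p : V ⟶ (obj₀ y).P} {t : V ⟶ T} {x : V ⟶ X} (hp : p ≫ proj y = t)
    (hx : p ≫ (obj₀ y).φ = x) :
    ∃ e : y.obj (Over.mk t) ≅ (atlas K aX).obj (Over.mk x),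
      e.hom.base = eqToHom (base_obj y _) ∧
      y.map (AlgStack.Yoneda.toId (Over.mk t)) = e.hom ≫ ptHom y hx := by
  subst hp hx
  exact exists_triv y (Over.mk p)

/-- The trivialisation at a point. -/
noncomputable def tr {p : V ⟶ (obj₀ y).P} {t : V ⟶ T} {x : V ⟶ X} (hp : p ≫ proj y = t)
    (hx : p ≫ (obj₀ y).φ = x) : y.obj (Over.mk t) ≅ (atlas K aX).obj (Over.mk x) :=
  (exists_tr y hp hx).choose

theorem tr_base {p : V ⟶ (obj₀ y).P} {t : V ⟶ T} {x : V ⟶ X} (hp : p ≫ proj y = t)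
    (hx : p ≫ (obj₀ y).φ = x) : (tr y hp hx).hom.base = eqToHom (base_obj y (Over.mk t)) :=
  (exists_tr y hp hx).choose_spec.1

theorem tr_comp {p : V ⟶ (obj₀ y).P} {t : V ⟶ T} {x : V ⟶ X} (hp : p ≫ proj y = t)
    (hx : p ≫ (obj₀ y).φ = x) :
    y.map (AlgStack.Yoneda.toId (Over.mk t)) = (tr y hp hx).hom ≫ ptHom y hx :=
  (exists_tr y hp hx).choose_spec.2

variable {V' : Over S} {p : V ⟶ (obj₀ y).P} {t : V ⟶ T} {x : V ⟶ X} {p' : V' ⟶ (obj₀ y).P}
  {t' : V' ⟶ T} {x' : V' ⟶ X} {v : V ⟶ V'}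

theorem ptHom_comp (hx : p ≫ (obj₀ y).φ = x) (hx' : p' ≫ (obj₀ y).φ = x') (h : v ≫ p' = p)
    (f : Over.mk x ⟶ Over.mk x') (hf : f.left = v) :
    (atlas K aX).map f ≫ ptHom y hx' = ptHom y hx := by
  refine hom_ext_of_point (A := obj₀ y) (x := x) ?_
  refine (point_comp_atlas (g := Over.mk x) (g' := Over.mk x') f _).trans ?_
  rw [point_ofPoint, hf]
  exact (congrArg (v ≫ ·) (point_ofPoint _ _ _ rfl hx')).trans h

/-- Trivialisations are natural in the point. -/
theorem tr_naturality (hp : p ≫ proj y = t) (hx : p ≫ (obj₀ y).φ = x) (hp' : p' ≫ proj y = t')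
    (hx' : p' ≫ (obj₀ y).φ = x') (f : Over.mk t ⟶ Over.mk t') (f' : Over.mk x ⟶ Over.mk x')
    (hf : f.left = v) (hf' : f'.left = v) (h : v ≫ p' = p) :
    y.map f ≫ (tr y hp' hx').hom = (tr y hp hx).hom ≫ (atlas K aX).map f' := by
  refine cancel (ptHom y hx') ?_ ?_
  · change (y.map f).base ≫ (tr y hp' hx').hom.base = (tr y hp hx).hom.base ≫ f'.left
    rw [tr_base, tr_base, map_base, hf, hf']
    simp
  · rw [Category.assoc, Category.assoc, ← tr_comp, ← Functor.map_comp]
    have e : f ≫ AlgStack.Yoneda.toId (Over.mk t') = AlgStack.Yoneda.toId (Over.mk t) :=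
      Over.OverMorphism.ext (Over.w f)
    rw [e, tr_comp y hp hx, ptHom_comp y hx hx' h f' hf']

/-- A morphism compatible with trivialisations relates the points. -/
theorem point_eq_of_naturality (hp : p ≫ proj y = t) (hx : p ≫ (obj₀ y).φ = x) (hp' : p' ≫ proj y = t')
    (hx' : p' ≫ (obj₀ y).φ = x') (f : Over.mk t ⟶ Over.mk t') (f' : Over.mk x ⟶ Over.mk x')
    (hf : f'.left = v)
    (h : y.map f ≫ (tr y hp' hx').hom = (tr y hp hx).hom ≫ (atlas K aX).map f') :
    v ≫ p' = p := by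
  have h1 : y.map f ≫ y.map (AlgStack.Yoneda.toId (Over.mk t')) = y.map (AlgStack.Yoneda.toId (Over.mk t)) := by
    rw [← Functor.map_comp]
    exact congrArg _ (Over.OverMorphism.ext (Over.w f))
  rw [tr_comp y hp' hx', tr_comp y hp hx, ← Category.assoc, h, Category.assoc] at h1
  have h2 := (cancel_epi (tr y hp hx).hom).1 h1
  have h3 := ((point_comp_atlas (g := Over.mk x) (g' := Over.mk x') f' _).symm.trans
    (congrArg (point (A := obj₀ y) (x := x)) h2)).trans (point_ofPoint _ _ _ rfl hx)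
  rw [hf] at h3
  exact (congrArg (v ≫ ·) (point_ofPoint _ _ _ rfl hx')).symm.trans h3

/-- Every identification with a trivial object is a trivialisation. -/
theorem exists_eq_tr (e : y.obj (Over.mk t) ≅ (atlas K aX).obj (Over.mk x))
    (he : e.hom.base = eqToHom (base_obj y (Over.mk t))) :
    ∃ (q : V ⟶ (obj₀ y).P) (hp : q ≫ proj y = t) (hx : q ≫ (obj₀ y).φ = x), e = tr y hp hx := by
  let m : trivObj K aX x ⟶ obj₀ y := e.inv ≫ y.map (AlgStack.Yoneda.toId (Over.mk t))
  have hib : e.inv.base = eqToHom (base_obj y (Over.mk t)).symm := by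
    have := congrArg (fun k => k.base) e.inv_hom_id
    simp only [QuotObj.comp_base, he] at this
    exact (cancel_mono (eqToHom (base_obj y (Over.mk t)))).1 (this.trans (by simp))
  have hmb : m.base = t ≫ eqToHom (base_obj y (Over.mk (𝟙 T))).symm := by
    change e.inv.base ≫ _ = _
    rw [hib, map_base]
    simp
  have hq : point m ≫ proj y = t := by rw [proj, ← Category.assoc, point_π, hmb]; simp
  have hx : point m ≫ (obj₀ y).φ = x := point_φ m
  refine ⟨point m, hq, hx, Iso.ext (cancel (ptHom y hx) (he.trans (tr_base y hq hx).symm) ?_)⟩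
  rw [← tr_comp y hq hx]
  have : ptHom y hx = m := hom_ext_of_point (A := obj₀ y) (x := x) (point_ofPoint _ _ _ rfl hx)
  rw [this]
  exact Iso.hom_inv_id_assoc e _

end Groth.Agent.Lib.QuotSt
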